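import Groth.Agent.Grpsch.QuotPoints
import Groth.Agent.Grpsch.Points
import Groth.Agent.Grpsch.AffGrpd
import Groth.Agent.S1895
import Groth.Agent.Sga1.EtaleSection

/-!
# The quotient square of an étale cartesian morphism of finite locally free affine groupoids
-/

set_option autoImplicit false
universe u

open CategoryTheory CategoryTheory.Limits AlgebraicGeometry

namespace K394.CartQuot

open Groth.Agent
open Groth.Agent.Grpsch.AffGrpd Groth.Agent.Grpsch.Points

/-- Surjectivity can be tested on geometric points. -/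
lemma surjective_of_geom {X Y : Scheme.{u}} (f : X ⟶ Y)
    (h : ∀ (K : Type u) [Field K] [IsAlgClosed K] (y : Spec (CommRingCat.of K) ⟶ Y),
      ∃ x : Spec (CommRingCat.of K) ⟶ X, x ≫ f = y) : Surjective f := by
  refine ⟨fun y => ?_⟩
  obtain ⟨K, _, _, g, hg⟩ := exists_geomPoint Y y
  obtain ⟨x, hx⟩ := h K g
  let p : Spec (CommRingCat.of K) := IsLocalRing.closedPoint K
  refine ⟨x p, ?_⟩
  rw [← Scheme.Hom.comp_apply, hx, hg]

/-- Universal injectivity can be tested on geometric points. -/
lemma universallyInjective_of_geom {X Y : Scheme.{u}} (f : X ⟶ Y)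
    (h : ∀ (K : Type u) [Field K] [IsAlgClosed K] (x x' : Spec (CommRingCat.of K) ⟶ X),
      x ≫ f = x' ≫ f → x = x') : UniversallyInjective f := by
  rw [UniversallyInjective.iff_diagonal]
  apply surjective_of_geom
  intro K _ _ y
  have := h K (y ≫ pullback.fst f f) (y ≫ pullback.snd f f) (by
    rw [Category.assoc, Category.assoc, pullback.condition])
  refine ⟨y ≫ pullback.fst f f, ?_⟩
  apply pullback.hom_ext
  · simp
  · simpa using this

variable {S : Scheme.{u}}

theorem isPullback_toQuot (G' G : Grpd.GroupoidScheme S) (f : Grpd.GroupoidScheme.Hom G' G)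
    [IsAffine G.U] [IsAffine G.R] [IsAffine G'.U] [IsAffine G'.R] [IsFinite G.s] [Flat G.s]
    [LocallyOfFinitePresentation G.s] [IsFinite G.t] [Flat G.t] [LocallyOfFinitePresentation G.t]
    [IsFinite G'.s] [Flat G'.s] [LocallyOfFinitePresentation G'.s] [IsFinite G'.t] [Flat G'.t]
    [LocallyOfFinitePresentation G'.t] (hs : IsPullback f.fR G'.s G.s f.fU)
    (ht : IsPullback f.fR G'.t G.t f.fU)
    (hstab : ∃ g : G'.stabilizer ⟶ G.stabilizer,
      g ≫ pullback.fst G.j G.diag = pullback.fst G'.j G'.diag ≫ f.fR ∧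
        IsPullback g G'.stabilizerToU G.stabilizerToU f.fU) [Etale f.fU]
    (g : Spec (CommRingCat.of G'.invariants) ⟶ Spec (CommRingCat.of G.invariants))
    (hg : G'.toQuot ≫ g = f.fU ≫ G.toQuot) : IsPullback f.fU G'.toQuot G.toQuot g := by
  -- `g` is the étale morphism of the reference
  obtain ⟨g₀, hg₀, hg₀e⟩ := Groth.Agent.S1895.result S G' G f hs ht hstab
  have hgg : g = g₀ := by
    obtain ⟨φ, rfl⟩ := Spec.map_surjective g
    obtain ⟨φ₀, rfl⟩ := Spec.map_surjective g₀
    have h1 := hg.trans hg₀.symm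
    rw [Grpd.GroupoidScheme.toQuot, Category.assoc, Category.assoc, ← Spec.map_comp,
      ← Spec.map_comp] at h1
    have h2 : IsIso G'.U.toSpecΓ := inferInstance
    rw [cancel_epi] at h1
    have h3 := Spec.map_injective h1
    congr 1
    ext c
    exact congrArg (fun ψ => CommRingCat.Hom.hom ψ c) h3
  subst hgg
  let P := pullback G.toQuot g
  let a : G'.U ⟶ P := pullback.lift f.fU G'.toQuot hg.symm
  have ha1 : a ≫ pullback.fst G.toQuot g = f.fU := pullback.lift_fst _ _ _
  have ha2 : a ≫ pullback.snd G.toQuot g = G'.toQuot := pullback.lift_snd _ _ _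
  have hae : Etale a := by
    have h1 : Etale (a ≫ pullback.fst G.toQuot g) := by rw [ha1]; infer_instance
    exact Etale.of_comp a (pullback.fst G.toQuot g)
  have hsurj : Surjective a := by
    apply surjective_of_geom
    intro K _ _ y
    obtain ⟨x₁, hx₁⟩ := exists_geomPoint_U G' K (y ≫ pullback.snd G.toQuot g)
    obtain ⟨r, hr0, hr1⟩ := exists_geomPoint_R G K (y ≫ pullback.fst G.toQuot g) (x₁ ≫ f.fU) (by
      rw [Category.assoc, Category.assoc, pullback.condition, ← hg, ← Category.assoc, ← hx₁,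
        Category.assoc])
    let r' : Spec (CommRingCat.of K) ⟶ G'.R := hs.lift r x₁ hr1
    have hr'1 : r' ≫ f.fR = r := hs.lift_fst _ _ _
    have hr'2 : r' ≫ G'.s = x₁ := hs.lift_snd _ _ _
    refine ⟨r' ≫ G'.t, ?_⟩
    apply pullback.hom_ext
    · rw [Category.assoc, ha1, Category.assoc, ← f.comm_t, ← Category.assoc, hr'1, hr0]
    · rw [Category.assoc, ha2, Category.assoc, t_toQuot, ← Category.assoc, hr'2, hx₁]
  have hinj : UniversallyInjective a := by
    apply universallyInjective_of_geom
    intro K _ _ x₁ x₂ hx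
    have h1 : x₁ ≫ f.fU = x₂ ≫ f.fU := by rw [← ha1, ← Category.assoc, hx, Category.assoc]
    have h2 : x₁ ≫ G'.toQuot = x₂ ≫ G'.toQuot := by
      rw [← ha2, ← Category.assoc, hx, Category.assoc]
    obtain ⟨r, hr0, hr1⟩ := exists_geomPoint_R G' K x₁ x₂ h2
    obtain ⟨h, hh, hpb⟩ := hstab
    let y : Spec (CommRingCat.of K) ⟶ G.stabilizer :=
      stabLift G (r ≫ f.fR) ((r ≫ f.fR) ≫ G.s) (by
        rw [Category.assoc, Category.assoc, f.comm_t, f.comm_s, ← Category.assoc,
          ← Category.assoc, hr0, hr1, h1]) rfl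
    have hy : y ≫ G.stabilizerToU = x₂ ≫ f.fU := by
      rw [stabLift_stabilizerToU, Category.assoc, f.comm_s, ← Category.assoc, hr1]
    let z : Spec (CommRingCat.of K) ⟶ G'.stabilizer := hpb.lift y x₂ hy
    have hz1 : z ≫ h = y := hpb.lift_fst _ _ _
    have hz2 : z ≫ G'.stabilizerToU = x₂ := hpb.lift_snd _ _ _
    have hzr : z ≫ stabToR G' = r := by
      apply hs.hom_ext
      · have := congrArg (fun w => z ≫ w) hh
        have e1 : (z ≫ h) ≫ stabToR G = (z ≫ stabToR G') ≫ f.fR := by
          rw [Category.assoc, Category.assoc]; exact this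
        rw [hz1, stabLift_stabToR] at e1
        exact e1.symm
      · rw [Category.assoc, stabToR_s, hz2, hr1]
    rw [← hr0, ← hr1, ← hzr, Category.assoc, Category.assoc, stabToR_s, stabToR_t]
  have hiso : IsIso a := Sga1.EtaleSection.isIso_of_etale_of_universallyInjective a
  exact IsPullback.of_iso_pullback ⟨hg.symm⟩ (asIso a) ha1 ha2

end K394.CartQuot
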