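import Groth.Agent.Grpsch.Points
import Mathlib.AlgebraicGeometry.Sites.Fpqc
import Mathlib.AlgebraicGeometry.Morphisms.FlatMono

/-!
# Descent of the structure of a groupoid scheme

`Data G π pV q s' t'`: the scheme of arrows `R` of `G` is the restriction along `π : U ⟶ V` of a
scheme `R'` over `V ×_S V`, compatibly with identities, inverses and composition. If `π` is flat,
surjective and locally of finite presentation then `(V, R')` is a groupoid scheme and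
`(π, q)` is a morphism of groupoid schemes.
-/

set_option autoImplicit false
universe u

open CategoryTheory CategoryTheory.Limits AlgebraicGeometry

namespace K394.DescGrpd

open Groth.Agent.Grpsch.Points

variable {S : Scheme.{u}} (G : Grpd.GroupoidScheme S) {V R' : Scheme.{u}}

/-- Compatibility of the groupoid structure with `π : U ⟶ V` and `q : R ⟶ R'`. -/
structure Data (π : G.U ⟶ V) (pV : V ⟶ S) (q : G.R ⟶ R') (s' t' : R' ⟶ V) : Prop where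
  π_over : π ≫ pV = G.pU
  over : s' ≫ pV = t' ≫ pV
  q_s : q ≫ s' = G.s ≫ π
  q_t : q ≫ t' = G.t ≫ π
  exists_lift : ∀ {T : Scheme.{u}} (ρ : T ⟶ R') (x y : T ⟶ G.U), ρ ≫ t' = x ≫ π →
    ρ ≫ s' = y ≫ π → ∃ r : T ⟶ G.R, r ≫ q = ρ ∧ r ≫ G.t = x ∧ r ≫ G.s = y
  e_q : ∀ {T : Scheme.{u}} (x x' : T ⟶ G.U), x ≫ π = x' ≫ π → x ≫ G.e ≫ q = x' ≫ G.e ≫ q
  i_q : ∀ {T : Scheme.{u}} (r r' : T ⟶ G.R), r ≫ q = r' ≫ q → r ≫ G.i ≫ q = r' ≫ G.i ≫ q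
  mul_q : ∀ {T : Scheme.{u}} (r₁ r₂ r₁' r₂' : T ⟶ G.R) (h : r₁ ≫ G.s = r₂ ≫ G.t)
    (h' : r₁' ≫ G.s = r₂' ≫ G.t), r₁ ≫ q = r₁' ≫ q → r₂ ≫ q = r₂' ≫ q →
    mul G r₁ r₂ h ≫ q = mul G r₁' r₂' h' ≫ q

/-- flat, surjective and locally of finite presentation. -/
structure Cov {X Y : Scheme.{u}} (f : X ⟶ Y) : Prop where
  flat : Flat f
  surj : Surjective f
  lfp : LocallyOfFinitePresentation f

lemma Cov.comp {X Y Z : Scheme.{u}} {f : X ⟶ Y} {g : Y ⟶ Z} (hf : Cov f) (hg : Cov g) :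
    Cov (f ≫ g) := by
  obtain ⟨_, _, _⟩ := hf
  obtain ⟨_, _, _⟩ := hg
  exact ⟨inferInstance, inferInstance, inferInstance⟩

lemma Cov.fst {X Y Z : Scheme.{u}} {f : X ⟶ Z} {g : Y ⟶ Z} (hg : Cov g) :
    Cov (pullback.fst f g) := by
  obtain ⟨_, _, _⟩ := hg
  exact ⟨inferInstance, inferInstance, inferInstance⟩

lemma Cov.epi {X Y : Scheme.{u}} {f : X ⟶ Y} (hf : Cov f) : Epi f := by
  obtain ⟨_, _, _⟩ := hf
  exact Flat.epi_of_flat_of_surjective _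

lemma Cov.effectiveEpi {X Y : Scheme.{u}} {f : X ⟶ Y} (hf : Cov f) : EffectiveEpi f := by
  obtain ⟨_, _, _⟩ := hf
  infer_instance

lemma Cov.exists_desc {X Y Z : Scheme.{u}} {f : X ⟶ Y} (hf : Cov f) (m : X ⟶ Z)
    (hm : ∀ {T : Scheme.{u}} (a b : T ⟶ X), a ≫ f = b ≫ f → a ≫ m = b ≫ m) :
    ∃ m' : Y ⟶ Z, f ≫ m' = m := by
  have := hf.effectiveEpi
  exact ⟨EffectiveEpi.desc f m fun a b h => hm a b h, EffectiveEpi.fac _ _ _⟩

variable {G}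
variable {π : G.U ⟶ V} {pV : V ⟶ S} {q : G.R ⟶ R'} {s' t' : R' ⟶ V} (D : Data G π pV q s' t')
  (hπ : Cov π)

include hπ in
lemma exists_pt {T : Scheme.{u}} (v : T ⟶ V) :
    ∃ (T' : Scheme.{u}) (f : T' ⟶ T) (x : T' ⟶ G.U), Cov f ∧ f ≫ v = x ≫ π :=
  ⟨pullback v π, pullback.fst _ _, pullback.snd _ _, hπ.fst, pullback.condition⟩

include D hπ

lemma exists_lift₁ {T : Scheme.{u}} (ρ : T ⟶ R') :
    ∃ (T' : Scheme.{u}) (f : T' ⟶ T) (r : T' ⟶ G.R), Cov f ∧ r ≫ q = f ≫ ρ := by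
  obtain ⟨T₁, f₁, x, hf₁, hx⟩ := exists_pt hπ (ρ ≫ t')
  obtain ⟨T₂, f₂, y, hf₂, hy⟩ := exists_pt hπ (f₁ ≫ ρ ≫ s')
  obtain ⟨r, hr, -, -⟩ := D.exists_lift ((f₂ ≫ f₁) ≫ ρ) (f₂ ≫ x) y
    (by simp only [Category.assoc, hx]) (by simpa only [Category.assoc] using hy)
  exact ⟨T₂, f₂ ≫ f₁, r, hf₂.comp hf₁, hr⟩

lemma exists_lift₂ {T : Scheme.{u}} (ρ₁ ρ₂ : T ⟶ R') (h : ρ₁ ≫ s' = ρ₂ ≫ t') :
    ∃ (T' : Scheme.{u}) (f : T' ⟶ T) (r₁ r₂ : T' ⟶ G.R) (_ : r₁ ≫ G.s = r₂ ≫ G.t),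
      Cov f ∧ r₁ ≫ q = f ≫ ρ₁ ∧ r₂ ≫ q = f ≫ ρ₂ := by
  obtain ⟨T₁, f₁, x, hf₁, hx⟩ := exists_pt hπ (ρ₁ ≫ t')
  obtain ⟨T₂, f₂, y, hf₂, hy⟩ := exists_pt hπ (f₁ ≫ ρ₁ ≫ s')
  obtain ⟨T₃, f₃, z, hf₃, hz⟩ := exists_pt hπ (f₂ ≫ f₁ ≫ ρ₂ ≫ s')
  obtain ⟨r₁, hr₁, ht₁, hs₁⟩ := D.exists_lift ((f₃ ≫ f₂ ≫ f₁) ≫ ρ₁) (f₃ ≫ f₂ ≫ x) (f₃ ≫ y)
    (by simp only [Category.assoc, hx]) (by simp only [Category.assoc, hy])
  obtain ⟨r₂, hr₂, ht₂, hs₂⟩ := D.exists_lift ((f₃ ≫ f₂ ≫ f₁) ≫ ρ₂) (f₃ ≫ y) z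
    (by simp only [Category.assoc, ← h, hy]) (by simpa only [Category.assoc] using hz)
  exact ⟨T₃, f₃ ≫ f₂ ≫ f₁, r₁, r₂, hs₁.trans ht₂.symm, hf₃.comp (hf₂.comp hf₁), hr₁, hr₂⟩

lemma exists_lift₃ {T : Scheme.{u}} (ρ₁ ρ₂ ρ₃ : T ⟶ R') (h : ρ₁ ≫ s' = ρ₂ ≫ t')
    (h' : ρ₂ ≫ s' = ρ₃ ≫ t') :
    ∃ (T' : Scheme.{u}) (f : T' ⟶ T) (r₁ r₂ r₃ : T' ⟶ G.R) (_ : r₁ ≫ G.s = r₂ ≫ G.t)
      (_ : r₂ ≫ G.s = r₃ ≫ G.t),
      Cov f ∧ r₁ ≫ q = f ≫ ρ₁ ∧ r₂ ≫ q = f ≫ ρ₂ ∧ r₃ ≫ q = f ≫ ρ₃ := by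
  obtain ⟨T₁, f₁, x, hf₁, hx⟩ := exists_pt hπ (ρ₁ ≫ t')
  obtain ⟨T₂, f₂, y, hf₂, hy⟩ := exists_pt hπ (f₁ ≫ ρ₁ ≫ s')
  obtain ⟨T₃, f₃, z, hf₃, hz⟩ := exists_pt hπ (f₂ ≫ f₁ ≫ ρ₂ ≫ s')
  obtain ⟨T₄, f₄, w, hf₄, hw⟩ := exists_pt hπ (f₃ ≫ f₂ ≫ f₁ ≫ ρ₃ ≫ s')
  obtain ⟨r₁, hr₁, ht₁, hs₁⟩ := D.exists_lift ((f₄ ≫ f₃ ≫ f₂ ≫ f₁) ≫ ρ₁) (f₄ ≫ f₃ ≫ f₂ ≫ x)
    (f₄ ≫ f₃ ≫ y) (by simp only [Category.assoc, hx]) (by simp only [Category.assoc, hy])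
  obtain ⟨r₂, hr₂, ht₂, hs₂⟩ := D.exists_lift ((f₄ ≫ f₃ ≫ f₂ ≫ f₁) ≫ ρ₂) (f₄ ≫ f₃ ≫ y) (f₄ ≫ z)
    (by simp only [Category.assoc, ← h, hy]) (by simp only [Category.assoc, hz])
  obtain ⟨r₃, hr₃, ht₃, hs₃⟩ := D.exists_lift ((f₄ ≫ f₃ ≫ f₂ ≫ f₁) ≫ ρ₃) (f₄ ≫ z) w
    (by simp only [Category.assoc, ← h', hz]) (by simpa only [Category.assoc] using hw)
  exact ⟨T₄, f₄ ≫ f₃ ≫ f₂ ≫ f₁, r₁, r₂, r₃, hs₁.trans ht₂.symm, hs₂.trans ht₃.symm,
    hf₄.comp (hf₃.comp (hf₂.comp hf₁)), hr₁, hr₂, hr₃⟩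

lemma cond_of {T : Scheme.{u}} {r₁ r₂ : T ⟶ G.R} (h : r₁ ≫ G.s = r₂ ≫ G.t) :
    (r₁ ≫ q) ≫ s' = (r₂ ≫ q) ≫ t' := by
  have _ := hπ
  rw [Category.assoc, Category.assoc, D.q_s, D.q_t, ← Category.assoc, h, Category.assoc]

/-- composition descends -/
lemma exists_c : ∃ c' : pullback s' t' ⟶ R', ∀ {T : Scheme.{u}} (r₁ r₂ : T ⟶ G.R)
    (h : r₁ ≫ G.s = r₂ ≫ G.t),
    pullback.lift (r₁ ≫ q) (r₂ ≫ q) (cond_of D hπ h) ≫ c' = mul G r₁ r₂ h ≫ q := by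
  obtain ⟨C, p, ρ₁, ρ₂, hρ, hp, h1, h2⟩ := exists_lift₂ D hπ (pullback.fst s' t')
    (pullback.snd s' t') pullback.condition
  obtain ⟨c', hc'⟩ := hp.exists_desc (mul G ρ₁ ρ₂ hρ ≫ q) (fun a b hab => by
    rw [← Category.assoc, ← Category.assoc, comp_mul, comp_mul]
    apply D.mul_q
    · rw [Category.assoc, Category.assoc, h1, ← Category.assoc, hab, Category.assoc]
    · rw [Category.assoc, Category.assoc, h2, ← Category.assoc, hab, Category.assoc])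
  refine ⟨c', fun {T} r₁ r₂ h => ?_⟩
  let l := pullback.lift (r₁ ≫ q) (r₂ ≫ q) (cond_of D hπ h)
  have he : Epi (pullback.fst l p) := hp.fst.epi
  rw [← cancel_epi (pullback.fst l p)]
  have e1 : pullback.fst l p ≫ l ≫ c' = pullback.snd l p ≫ mul G ρ₁ ρ₂ hρ ≫ q := by
    rw [pullback.condition_assoc, hc']
  refine e1.trans ?_
  rw [← Category.assoc, ← Category.assoc, comp_mul, comp_mul]
  apply D.mul_q
  · rw [Category.assoc, h1, ← pullback.condition_assoc, pullback.lift_fst, Category.assoc]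
  · rw [Category.assoc, h2, ← pullback.condition_assoc, pullback.lift_snd, Category.assoc]

lemma exists_e : ∃ e' : V ⟶ R', ∀ {T : Scheme.{u}} (x : T ⟶ G.U),
    (x ≫ π) ≫ e' = x ≫ G.e ≫ q := by
  obtain ⟨e', he'⟩ := hπ.exists_desc (G.e ≫ q) (fun a b hab => D.e_q a b hab)
  exact ⟨e', fun x => by rw [Category.assoc, he']⟩

lemma exists_i : ∃ i' : R' ⟶ R', ∀ {T : Scheme.{u}} (r : T ⟶ G.R),
    (r ≫ q) ≫ i' = r ≫ G.i ≫ q := by
  obtain ⟨C, p, ρ, hp, h1⟩ := exists_lift₁ D hπ (𝟙 R')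
  rw [Category.comp_id] at h1
  obtain ⟨i', hi'⟩ := hp.exists_desc (ρ ≫ G.i ≫ q) (fun a b hab => by
    rw [← Category.assoc a ρ, ← Category.assoc b ρ]
    apply D.i_q
    rw [Category.assoc, Category.assoc, h1, hab])
  refine ⟨i', fun {T} r => ?_⟩
  have he : Epi (pullback.fst (r ≫ q) p) := hp.fst.epi
  rw [← cancel_epi (pullback.fst (r ≫ q) p), pullback.condition_assoc, hi', ← Category.assoc,
    ← Category.assoc (pullback.fst (r ≫ q) p) r (G.i ≫ q)]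
  apply D.i_q
  rw [Category.assoc, h1, ← pullback.condition, Category.assoc]

/-- the composition on the quotient -/
noncomputable def c' : pullback s' t' ⟶ R' := (exists_c D hπ).choose
/-- the identity of the quotient -/
noncomputable def e' : V ⟶ R' := (exists_e D hπ).choose
/-- the inverse of the quotient -/
noncomputable def i' : R' ⟶ R' := (exists_i D hπ).choose

lemma lift_c' {T : Scheme.{u}} (r₁ r₂ : T ⟶ G.R) (h : r₁ ≫ G.s = r₂ ≫ G.t)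
    (h' : (r₁ ≫ q) ≫ s' = (r₂ ≫ q) ≫ t') :
    pullback.lift (r₁ ≫ q) (r₂ ≫ q) h' ≫ c' D hπ = mul G r₁ r₂ h ≫ q :=
  (exists_c D hπ).choose_spec r₁ r₂ h

lemma comp_e' {T : Scheme.{u}} (x : T ⟶ G.U) : (x ≫ π) ≫ e' D hπ = x ≫ G.e ≫ q :=
  (exists_e D hπ).choose_spec x

lemma comp_i' {T : Scheme.{u}} (r : T ⟶ G.R) : (r ≫ q) ≫ i' D hπ = r ≫ G.i ≫ q :=
  (exists_i D hπ).choose_spec r

omit D hπ in
lemma comp_lift_eq {T T' : Scheme.{u}} (f : T' ⟶ T) (α β : T ⟶ R') (α' β' : T' ⟶ R')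
    (h : α ≫ s' = β ≫ t') (hα : f ≫ α = α') (hβ : f ≫ β = β') (m : pullback s' t' ⟶ R') :
    f ≫ pullback.lift α β h ≫ m = pullback.lift α' β' (by
      rw [← hα, ← hβ, Category.assoc, Category.assoc, h]) ≫ m := by
  rw [← Category.assoc]
  congr 1
  apply pullback.hom_ext
  · rw [Category.assoc, pullback.lift_fst, pullback.lift_fst, hα]
  · rw [Category.assoc, pullback.lift_snd, pullback.lift_snd, hβ]

/-- The descended groupoid scheme. -/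
noncomputable def grpd : Grpd.GroupoidScheme S where
  U := V
  R := R'
  pU := pV
  pR := s' ≫ pV
  s := s'
  t := t'
  e := e' D hπ
  i := i' D hπ
  c := c' D hπ
  s_over := rfl
  t_over := D.over.symm
  comp_s {T} α β h := by
    obtain ⟨T', f, r₁, r₂, hr, hf, h1, h2⟩ := exists_lift₂ D hπ α β h
    have := hf.epi
    rw [← cancel_epi f, ← Category.assoc, comp_lift_eq f α β _ _ h h1.symm h2.symm,
      lift_c' D hπ r₁ r₂ hr, Category.assoc, D.q_s, ← Category.assoc, mul_s, Category.assoc,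
      ← D.q_s, ← Category.assoc, h2, Category.assoc]
  comp_t {T} α β h := by
    obtain ⟨T', f, r₁, r₂, hr, hf, h1, h2⟩ := exists_lift₂ D hπ α β h
    have := hf.epi
    rw [← cancel_epi f, ← Category.assoc, comp_lift_eq f α β _ _ h h1.symm h2.symm,
      lift_c' D hπ r₁ r₂ hr, Category.assoc, D.q_t, ← Category.assoc, mul_t, Category.assoc,
      ← D.q_t, ← Category.assoc, h1, Category.assoc]
  assoc {T} α β γ h₁ h₂ := by
    obtain ⟨T', f, r₁, r₂, r₃, hr, hr', hf, h1, h2, h3⟩ := exists_lift₃ D hπ α β γ h₁ h₂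
    have := hf.epi
    rw [← cancel_epi f]
    rw [comp_lift_eq f _ γ (mul G r₁ r₂ hr ≫ q) (r₃ ≫ q) _ (by
        rw [comp_lift_eq f α β _ _ h₁ h1.symm h2.symm, lift_c' D hπ r₁ r₂ hr]) h3.symm,
      lift_c' D hπ _ r₃ (by rw [mul_s, hr']),
      comp_lift_eq f α _ (r₁ ≫ q) (mul G r₂ r₃ hr' ≫ q) _ h1.symm (by
        rw [comp_lift_eq f β γ _ _ h₂ h2.symm h3.symm, lift_c' D hπ r₂ r₃ hr']),
      lift_c' D hπ r₁ _ (by rw [mul_t, hr]), mul_assoc G r₁ r₂ r₃ hr hr']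
  e_s := by
    have := hπ.epi
    rw [← cancel_epi π, ← Category.assoc]
    have h := comp_e' D hπ (𝟙 _)
    rw [Category.id_comp, Category.id_comp] at h
    rw [h, Category.assoc, D.q_s, e_s_assoc, Category.comp_id]
  e_t := by
    have := hπ.epi
    rw [← cancel_epi π, ← Category.assoc]
    have h := comp_e' D hπ (𝟙 _)
    rw [Category.id_comp, Category.id_comp] at h
    rw [h, Category.assoc, D.q_t, e_t_assoc, Category.comp_id]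
  comp_e {T} α := by
    obtain ⟨T', f, r, hf, h1⟩ := exists_lift₁ D hπ α
    have := hf.epi
    rw [← cancel_epi f]
    have e1 : f ≫ α ≫ s' ≫ e' D hπ = ((r ≫ G.s) ≫ G.e) ≫ q := by
      rw [← Category.assoc, ← h1, Category.assoc, ← Category.assoc q, D.q_s, ← Category.assoc,
        ← Category.assoc, comp_e', Category.assoc, Category.assoc, Category.assoc]
    rw [comp_lift_eq f α _ (r ≫ q) _ _ h1.symm e1, lift_c' D hπ r _ (by simp), mul_e, h1]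
  e_comp {T} α := by
    obtain ⟨T', f, r, hf, h1⟩ := exists_lift₁ D hπ α
    have := hf.epi
    rw [← cancel_epi f]
    have e1 : f ≫ α ≫ t' ≫ e' D hπ = ((r ≫ G.t) ≫ G.e) ≫ q := by
      rw [← Category.assoc, ← h1, Category.assoc, ← Category.assoc q, D.q_t, ← Category.assoc,
        ← Category.assoc, comp_e', Category.assoc, Category.assoc, Category.assoc]
    rw [comp_lift_eq f _ α _ (r ≫ q) _ e1 h1.symm, lift_c' D hπ _ r (by simp), e_mul, h1]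
  i_s := by
    obtain ⟨T', f, r, hf, h1⟩ := exists_lift₁ D hπ (𝟙 R')
    have := hf.epi
    rw [Category.comp_id] at h1
    rw [← cancel_epi f, ← Category.assoc, ← h1, comp_i', Category.assoc, Category.assoc,
      Category.assoc, D.q_s, D.q_t, i_s_assoc]
  i_t := by
    obtain ⟨T', f, r, hf, h1⟩ := exists_lift₁ D hπ (𝟙 R')
    have := hf.epi
    rw [Category.comp_id] at h1
    rw [← cancel_epi f, ← Category.assoc, ← h1, comp_i', Category.assoc, Category.assoc,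
      Category.assoc, D.q_t, D.q_s, i_t_assoc]
  comp_i {T} α := by
    obtain ⟨T', f, r, hf, h1⟩ := exists_lift₁ D hπ α
    have := hf.epi
    rw [← cancel_epi f]
    have e1 : f ≫ α ≫ i' D hπ = (r ≫ G.i) ≫ q := by
      rw [← Category.assoc, ← h1, comp_i', Category.assoc]
    rw [comp_lift_eq f α _ (r ≫ q) _ _ h1.symm e1, lift_c' D hπ r _ (by simp), mul_inv,
      ← Category.assoc f, ← h1, Category.assoc, Category.assoc, Category.assoc,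
      ← Category.assoc q, D.q_t]
    have h := comp_e' D hπ (r ≫ G.t)
    simp only [Category.assoc] at h ⊢
    exact h.symm
  i_comp {T} α := by
    obtain ⟨T', f, r, hf, h1⟩ := exists_lift₁ D hπ α
    have := hf.epi
    rw [← cancel_epi f]
    have e1 : f ≫ α ≫ i' D hπ = (r ≫ G.i) ≫ q := by
      rw [← Category.assoc, ← h1, comp_i', Category.assoc]
    rw [comp_lift_eq f _ α _ (r ≫ q) _ e1 h1.symm, lift_c' D hπ _ r (by simp), inv_mul,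
      ← Category.assoc f, ← h1, Category.assoc, Category.assoc, Category.assoc,
      ← Category.assoc q, D.q_s]
    have h := comp_e' D hπ (r ≫ G.s)
    simp only [Category.assoc] at h ⊢
    exact h.symm

/-- The projection to the descended groupoid scheme. -/
noncomputable def proj : Grpd.GroupoidScheme.Hom G (grpd D hπ) where
  fU := π
  fR := q
  fU_over := D.π_over
  comm_s := D.q_s
  comm_t := D.q_t
  comm_c α β h := (lift_c' D hπ α β h _).symm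

end K394.DescGrpd
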