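import Groth.Agent.Grpsch.FieldDim
import Groth.Prelude.Def_Flat

/-!
# Groupoids on a field: equidimensionality
-/

set_option autoImplicit false
universe u

open CategoryTheory CategoryTheory.Limits AlgebraicGeometry Order TopologicalSpace Topology

namespace K394.FieldEquidim

open Groth.Agent
open Groth.Agent.Grpsch.UniAt (UniAt)

section top

attribute [local instance] specializationOrder

variable {X Y : Type*} [TopologicalSpace X] [TopologicalSpace Y]

/-- On an irreducible component all of whose points have a unique maximal generization, the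
codimension of a point is the same as in the ambient space. -/
theorem coheight_component [QuasiSober X] [T0Space X] [T0Space Y] (huni : ∀ x : X, UniAt x)
    {f : Y → X} (hf : IsInducing f)
    (hZ : Set.range f ∈ irreducibleComponents X) (x : Y) : coheight x = coheight (f x) := by
  refine coheight_eq_of_strictMono f ?_ ?_ x
  · intro a b hab
    have hba : b ⤳ a := hab.le
    refine lt_of_le_not_ge (hba.map hf.continuous) ?_
    intro (h : f a ⤳ f b)
    exact hab.not_ge (hf.specializes_iff.mp h)
  · intro a b hb
    have hba : b ⤳ f a := hb.le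
    obtain ⟨η, hη⟩ := QuasiSober.sober hZ.1 (isClosed_of_mem_irreducibleComponents _ hZ)
    obtain ⟨ξ, hξ, hξm⟩ := Grpsch.UniAt.exists_maximal_generization b
    have h1 : η = ξ := huni (f a) η ξ (by
        rw [specializes_iff_mem_closure, hη.def]; exact ⟨a, rfl⟩)
      (hξ.trans hba) (Grpsch.UniAt.closure_generic hZ hη) hξm
    obtain ⟨c, rfl⟩ : b ∈ Set.range f := by
      rw [← hη.def, h1]
      exact specializes_iff_mem_closure.mp hξ
    refine ⟨c, ?_, rfl⟩
    refine lt_of_le_not_ge (hf.specializes_iff.mp hba) ?_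
    intro (h : a ⤳ c)
    exact hb.not_ge (h.map hf.continuous)

theorem dim_component_eq [QuasiSober X] [T0Space X] [JacobsonSpace X] (huni : ∀ x : X, UniAt x)
    (d : ℕ∞) (h : ∀ x : X, IsClosed ({x} : Set X) → coheight x = d) {Z : Set X}
    (hZ : Z ∈ irreducibleComponents X) : topologicalKrullDim Z = (d : WithBot ℕ∞) := by
  have hcl : IsClosed Z := isClosed_of_mem_irreducibleComponents Z hZ
  have := hcl.isClosedEmbedding_subtypeVal.quasiSober
  have : JacobsonSpace Z := JacobsonSpace.of_isClosedEmbedding hcl.isClosedEmbedding_subtypeVal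
  obtain ⟨z, hz⟩ := hZ.1.1
  have h1 := Sga3C.DimTop.topologicalKrullDim_open_eq_of_closedPoints (X := Z) Set.univ
    isOpen_univ ⟨⟨z, hz⟩, trivial⟩ d (fun x _ hx => by
      refine (coheight_component (f := (Subtype.val : Z → X)) huni IsInducing.subtypeVal
        (by rw [Subtype.range_coe]; exact hZ) x).trans ?_
      apply h
      have := hcl.isClosedEmbedding_subtypeVal.isClosedMap _ hx
      rwa [Set.image_singleton] at this)
  rw [← h1]
  exact (IsHomeomorph.topologicalKrullDim_eq _ (Homeomorph.Set.univ Z).isHomeomorph).symm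

theorem localDim_eq [QuasiSober X] [T0Space X] [JacobsonSpace X] 
    (d : ℕ∞) (h : ∀ x : X, IsClosed ({x} : Set X) → coheight x = d) (x : X) :
    FlatMor.localDim X x = (d : WithBot ℕ∞) := by
  unfold FlatMor.localDim
  have : Nonempty {U : TopologicalSpace.Opens X // x ∈ U} := ⟨⟨⊤, trivial⟩⟩
  refine (iInf_congr fun U => ?_).trans (ciInf_const (a := (d : WithBot ℕ∞)))
  exact Sga3C.DimTop.topologicalKrullDim_open_eq_of_closedPoints (X := X) (U.1 : Set X)
    U.1.isOpen ⟨x, U.2⟩ d (fun y _ hy => h y hy)

end top

variable {S : Scheme.{u}} (G : Grpd.GroupoidScheme S)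

theorem equidim (k : Type u) [Field k] (eU : G.U ≅ Spec (CommRingCat.of k))
    [LocallyOfFiniteType G.s] [LocallyOfFiniteType G.t] :
    (∀ Z ∈ irreducibleComponents ↥G.R, topologicalKrullDim ↥Z = topologicalKrullDim ↥G.R) ∧
      ∀ r : G.R, FlatMor.localDim ↥G.R r = topologicalKrullDim ↥G.R := by
  have hJ := Grpsch.FieldDim.jacobson_R G k eU
  let u : G.U := eU.inv (IsLocalRing.closedPoint k)
  have hd := Grpsch.FieldDim.topologicalKrullDim_eq_coheight_e G k eU u
  have hcl := fun (x : G.R) (hx : IsClosed ({x} : Set G.R)) =>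
    Grpsch.FieldDim.coheight_eq_coheight_e G k eU x hx u
  refine ⟨fun Z hZ => ?_, fun r => ?_⟩
  · rw [hd]
    exact dim_component_eq (fun x => Grpsch.FieldUni.uniAt G k eU x) _ hcl hZ
  · rw [hd]
    exact localDim_eq _ hcl r

end K394.FieldEquidim
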