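import Groth.Agent.Grpsch.FieldDim
import Groth.Agent.S1539

/-!
# Groupoids on a field: the component through the identity is geometrically irreducible
-/

set_option autoImplicit false
universe u

open CategoryTheory CategoryTheory.Limits AlgebraicGeometry Order TopologicalSpace Topology

namespace K394.FieldGeomIrr

open Groth.Agent
open Groth.Agent.Grpsch.UniAt (UniAt)
open Groth.Agent.Grpsch.Points Groth.Agent.Grpsch.Restrict

/-- A space over an irreducible one, with closed and generalizing projection, all of whose points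
have a unique maximal generization, and with a unique point over some point, is irreducible. -/
theorem irreducibleSpace_of_unique_point {X' X : Type*} [TopologicalSpace X'] [TopologicalSpace X]
    [T0Space X'] [QuasiSober X'] [T0Space X] [QuasiSober X] [IrreducibleSpace X] {p : X' → X}
    (hcl : IsClosedMap p) (hgen : GeneralizingMap p) (x' : X') 
    (huniq : ∀ y, p y = p x' → y = x') (huni : UniAt x') : IrreducibleSpace X' := by
  have key : ∀ η : X', (∀ y, y ⤳ η → y = η) → η ⤳ x' := by
    intro η hη
    have h1 : p η = genericPoint X := by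
      obtain ⟨y, hy, hpy⟩ := hgen (genericPoint_specializes (p η))
      rw [← hpy, hη y hy]
    have h2 : p x' ∈ p '' closure {η} := by
      have h3 : IsClosed (p '' closure {η}) := hcl _ isClosed_closure
      have h4 : genericPoint X ∈ p '' closure {η} := ⟨η, subset_closure rfl, h1⟩
      exact h3.closure_subset_iff.mpr (Set.singleton_subset_iff.mpr h4)
        (specializes_iff_mem_closure.mp (genericPoint_specializes (p x')))
    obtain ⟨y, hy, hpy⟩ := h2
    rw [huniq y hpy] at hy
    exact specializes_iff_mem_closure.mpr hy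
  obtain ⟨η, hη, hηm⟩ := Grpsch.UniAt.exists_maximal_generization x'
  have hall : ∀ y : X', η ⤳ y := by
    intro y
    obtain ⟨ξ, hξ, hξm⟩ := Grpsch.UniAt.exists_maximal_generization y
    rwa [huni η ξ hη (key ξ hξm) hηm hξm]
  have h1 : closure {η} = (Set.univ : Set X') := by
    ext y
    simp only [Set.mem_univ, iff_true]
    exact specializes_iff_mem_closure.mp (hall y)
  have h2 : IsIrreducible (Set.univ : Set X') := by
    rw [← h1]; exact isIrreducible_singleton.closure
  exact irreducibleSpace_def X' |>.mpr h2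

section section_

variable {X B B' : Scheme.{u}} (f : X ⟶ B) (g : B' ⟶ B) (e : B ⟶ X) (he : e ≫ f = 𝟙 B)

include he in
/-- the base change of a section is cartesian over the section. -/
lemma isPullback_section : IsPullback (pullback.lift (g ≫ e) (𝟙 B') (by simp [he]))
    g (pullback.fst f g) e := by
  refine IsPullback.of_right (h₁₂ := pullback.snd f g) (h₂₂ := f) (v₁₃ := g) ?_
    (pullback.lift_fst _ _ _) (IsPullback.of_hasPullback f g).flip
  rw [pullback.lift_snd, he]
  exact IsPullback.of_horiz_isIso ⟨by simp⟩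

include he in
lemma eq_of_fst_eq_section [Subsingleton B'] (b : B) (x y : ↥(pullback f g))
    (hx : pullback.fst f g x = e b) (hy : pullback.fst f g y = e b) : x = y := by
  have key : ∀ z, pullback.fst f g z = e b →
      ∃ b' : B', pullback.lift (g ≫ e) (𝟙 B') (by simp [he]) b' = z := by
    intro z hz
    obtain ⟨q, hq1, hq2⟩ := Scheme.Pullback.exists_preimage_pullback z b hz
    refine ⟨(isPullback_section f g e he).isoPullback.inv q, ?_⟩
    rw [← Scheme.Hom.comp_apply, IsPullback.isoPullback_inv_fst, hq1]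
  obtain ⟨b₁, rfl⟩ := key x hx
  obtain ⟨b₂, rfl⟩ := key y hy
  rw [Subsingleton.elim b₁ b₂]

end section_

variable {S : Scheme.{u}} (G : Grpd.GroupoidScheme S)

/-- All points of `R ×_{s,U} U'` have a unique maximal generization, for `U'` the spectrum of a
field. -/
theorem uniAt_bc (k : Type u) [Field k] (eU : G.U ≅ Spec (CommRingCat.of k)) (K : Type u) [Field K]
    (g : Spec (CommRingCat.of K) ⟶ Spec (CommRingCat.of k))
    (x : ↥(pullback (G.s ≫ eU.hom) g)) : UniAt x := by
  let g' : Spec (CommRingCat.of K) ⟶ G.U := g ≫ eU.inv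
  let a : arrows G g' ⟶ pullback (G.s ≫ eU.hom) g :=
    pullback.map (pullback.snd g' G.t ≫ G.s) g' (G.s ≫ eU.hom) g (pullback.snd g' G.t) (𝟙 _)
      eU.hom (by simp) (by simp [g'])
  have hflat : Flat g' := Grpsch.FieldDim.flat_to_field eU g'
  have hne : Nonempty (Spec (CommRingCat.of k)) := ⟨IsLocalRing.closedPoint k⟩
  have hsub : Subsingleton G.U := eU.hom.homeomorph.injective.subsingleton
  have hsurj : Surjective g' := ⟨fun x => ⟨IsLocalRing.closedPoint K, Subsingleton.elim _ _⟩⟩
  have ha : IsPullback a (pullback.fst _ _) (pullback.fst (G.s ≫ eU.hom) g)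
      (pullback.snd g' G.t) := by
    refine IsPullback.of_right (h₁₂ := pullback.snd (G.s ≫ eU.hom) g) (h₂₂ := G.s ≫ eU.hom)
      (v₁₃ := g) ?_ (pullback.lift_fst _ _ _) (IsPullback.of_hasPullback _ _).flip
    have h1 : IsPullback (pullback.snd (pullback.snd g' G.t ≫ G.s) g')
        (pullback.fst (pullback.snd g' G.t ≫ G.s) g') g' (pullback.snd g' G.t ≫ G.s) :=
      (IsPullback.of_hasPullback _ _).flip
    have h2 : IsPullback (𝟙 _) g' g eU.hom := IsPullback.of_horiz_isIso ⟨by simp [g']⟩
    have h3 := h1.paste_horiz h2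
    have e1 : a ≫ pullback.snd (G.s ≫ eU.hom) g =
      pullback.snd (pullback.snd g' G.t ≫ G.s) g' ≫ 𝟙 _ := pullback.lift_snd _ _ _
    rw [e1]
    simpa using h3
  have haflat : Flat a := MorphismProperty.of_isPullback ha.flip inferInstance
  have hasurj : Surjective a := MorphismProperty.of_isPullback ha.flip inferInstance
  obtain ⟨y, rfl⟩ := a.surjective x
  exact (Grpsch.FieldUni.uniAt (restrict G g') K (Iso.refl _) y).of_flat a

theorem geometricallyIrreducible_s (k : Type u) [Field k] (eU : G.U ≅ Spec (CommRingCat.of k))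
    (Z : Scheme.{u}) (ι : Z ⟶ G.R) [IsClosedImmersion ι] [IrreducibleSpace Z]
    (hZ : Set.range ⇑ι ∈ irreducibleComponents ↥G.R)
    (he : G.e (eU.inv (IsLocalRing.closedPoint k)) ∈ Set.range ⇑ι) :
    GeometricallyIrreducible (ι ≫ G.s ≫ eU.hom) := by
  let f : Z ⟶ Spec (CommRingCat.of k) := ι ≫ G.s ≫ eU.hom
  let _ : Z.Over (Spec (CommRingCat.of k)) := ⟨f⟩
  refine Groth.Agent.S1539.result k Z ?_
  intro K _ _ _ _
  let g : Spec (CommRingCat.of K) ⟶ Spec (CommRingCat.of k) :=
    Spec.map (CommRingCat.ofHom (algebraMap k K))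
  change IrreducibleSpace ↥(pullback f g)
  have hfin : IsFinite g := by
    rw [IsFinite.SpecMap_iff]
    exact RingHom.finite_algebraMap.mpr inferInstance
  have hflat : Flat g := Grpsch.FieldDim.flat_to_field (Iso.refl _) g
  have hsubU : Subsingleton (Spec (CommRingCat.of k)) := inferInstance
  have hgs : Surjective g := ⟨fun x => ⟨IsLocalRing.closedPoint K, Subsingleton.elim _ _⟩⟩
  let q : pullback (G.s ≫ eU.hom) g ⟶ G.R := pullback.fst _ _
  let j : pullback f g ⟶ pullback (G.s ≫ eU.hom) g :=
    pullback.map f g (G.s ≫ eU.hom) g ι (𝟙 _) (𝟙 _) (by simp [f]) (by simp)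
  have hj : IsPullback j (pullback.fst f g) q ι := by
    refine IsPullback.of_right (h₁₂ := pullback.snd (G.s ≫ eU.hom) g) (h₂₂ := G.s ≫ eU.hom)
      (v₁₃ := g) ?_ (pullback.lift_fst _ _ _) (IsPullback.of_hasPullback _ _).flip
    have e1 : j ≫ pullback.snd (G.s ≫ eU.hom) g = pullback.snd f g :=
      (pullback.lift_snd _ _ _).trans (Category.comp_id _)
    rw [e1]
    exact (IsPullback.of_hasPullback f g).flip
  have hjcl : IsClosedImmersion j := MorphismProperty.of_isPullback hj.flip inferInstance
  have hqj : ∀ z, q (j z) = ι (pullback.fst f g z) := by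
    intro z
    rw [← Scheme.Hom.comp_apply, hj.w, Scheme.Hom.comp_apply]
  have hrange : ∀ y, q y ∈ Set.range ι → y ∈ Set.range j := by
    rintro y ⟨z, hz⟩
    obtain ⟨w, hw1, hw2⟩ := Scheme.Pullback.exists_preimage_pullback (f := q) (g := ι) y z hz.symm
    refine ⟨hj.isoPullback.inv w, ?_⟩
    rw [← Scheme.Hom.comp_apply, IsPullback.isoPullback_inv_fst, hw1]
  obtain ⟨z₀, hz₀⟩ := he
  obtain ⟨x', hx'⟩ := (pullback.fst f g).surjective z₀
  refine irreducibleSpace_of_unique_point
    (pullback.fst f g).isClosedMap (Flat.generalizingMap _) x' ?_ ?_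
  · intro y hy
    apply j.isEmbedding.injective
    apply eq_of_fst_eq_section (G.s ≫ eU.hom) g (eU.inv ≫ G.e) (by simp)
      (IsLocalRing.closedPoint k)
    · exact (hqj y).trans (by rw [hy, hx', hz₀]; rfl)
    · exact (hqj x').trans (by rw [hx', hz₀]; rfl)
  · intro η₁ η₂ h1 h2 hm1 hm2
    have key : ∀ η : ↥(pullback f g), (∀ y, y ⤳ η → y = η) → ∀ y, y ⤳ j η → y = j η := by
      intro η hη y hy
      have h3 : pullback.fst f g η = genericPoint Z := by
        obtain ⟨w, hw, hpw⟩ := Flat.generalizingMap (pullback.fst f g)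
          (genericPoint_specializes (pullback.fst f g η))
        rw [← hpw, hη w hw]
      have h4 : IsGenericPoint (ι (genericPoint Z)) (Set.range ι) := by
        have := (genericPoint_spec (α := Z)).image ι.continuous
        rw [Set.image_univ] at this
        rwa [(ι.isClosedEmbedding.isClosed_range).closure_eq] at this
      have h5 : q y = ι (genericPoint Z) := by
        apply Grpsch.UniAt.closure_generic hZ h4
        have := hy.map q.continuous
        rw [hqj η, h3] at this
        exact this
      obtain ⟨w, rfl⟩ := hrange y (by rw [h5]; exact ⟨_, rfl⟩)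
      rw [hη w (j.isEmbedding.isInducing.specializes_iff.mp hy)]
    apply j.isEmbedding.injective
    exact uniAt_bc G k eU K g (j x') _ _ (h1.map j.continuous) (h2.map j.continuous)
      (key η₁ hm1) (key η₂ hm2)

theorem geometricallyIrreducible_t (k : Type u) [Field k] (eU : G.U ≅ Spec (CommRingCat.of k))
    (Z : Scheme.{u}) (ι : Z ⟶ G.R) [IsClosedImmersion ι] [IrreducibleSpace Z]
    (hZ : Set.range ⇑ι ∈ irreducibleComponents ↥G.R)
    (he : G.e (eU.inv (IsLocalRing.closedPoint k)) ∈ Set.range ⇑ι) :
    GeometricallyIrreducible (ι ≫ G.t ≫ eU.hom) := by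
  have hii : ∀ x, G.i (G.i x) = x := by
    intro x
    rw [← Scheme.Hom.comp_apply, i_i]; rfl
  have h1 : Set.range ⇑(ι ≫ G.i) = G.i ⁻¹' Set.range ι := by
    ext x
    simp only [Set.mem_range, Scheme.Hom.comp_apply, Set.mem_preimage]
    constructor
    · rintro ⟨y, rfl⟩
      exact ⟨y, (hii _).symm⟩
    · rintro ⟨y, hy⟩
      exact ⟨y, by rw [hy, hii]⟩
  have hie : G.i (G.e (eU.inv (IsLocalRing.closedPoint k))) =
      G.e (eU.inv (IsLocalRing.closedPoint k)) := by
    rw [← Scheme.Hom.comp_apply, e_i]
  have h := geometricallyIrreducible_s G k eU Z (ι ≫ G.i) (by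
    rw [h1]
    exact preimage_mem_irreducibleComponents hZ G.i.isOpenEmbedding
      ⟨_, he, _, hie⟩) (by
    rw [h1, Set.mem_preimage, hie]
    exact he)
  rw [Category.assoc, i_s_assoc] at h
  exact h

end K394.FieldGeomIrr
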