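import Groth.Agent.Grpd.K394.FinFam
import Groth.Agent.Grpsch.Points
import Groth.Agent.S9389

/-!
# The partial action of a groupoid scheme on the Hilbert scheme of its source morphism
-/

set_option autoImplicit false
set_option backward.isDefEq.respectTransparency false
set_option backward.isDefEq.respectTransparency.types false
universe u

open CategoryTheory CategoryTheory.Limits AlgebraicGeometry

namespace K394.FinFam

open Groth.Agent.Picfga.HilbPull Groth.Agent.Grpsch.Points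

variable {S : Scheme.{u}} (G : Grpd.GroupoidScheme S)

section translation

variable {T : Scheme.{u}} (z : T ⟶ G.R)

/-- Right translation by the inverse of `z`. -/
noncomputable def trans : pullback G.s (z ≫ G.s) ⟶ G.R :=
  mul G (pullback.fst _ _) ((pullback.snd _ _ ≫ z) ≫ G.i) (by
    rw [inv_t, pullback.condition, Category.assoc])

lemma trans_s : trans G z ≫ G.s = pullback.snd G.s (z ≫ G.s) ≫ z ≫ G.t := by
  rw [trans, mul_s, inv_s, Category.assoc]

lemma isPullback_trans : IsPullback (trans G z) (pullback.snd G.s (z ≫ G.s)) G.s (z ≫ G.t) := by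
  refine ⟨⟨trans_s G z⟩, ⟨PullbackCone.IsLimit.mk _ (fun r => pullback.lift
    (mul G r.fst (r.snd ≫ z) (by rw [r.condition, Category.assoc])) r.snd
    (by rw [mul_s, Category.assoc])) ?_ ?_ ?_⟩⟩
  · intro r
    rw [trans, comp_mul]
    refine (mul_congr G _ (pullback.lift_fst _ _ _) (by
      rw [← Category.assoc, ← Category.assoc, pullback.lift_snd])).trans ?_
    exact mul_inv_cancel_right G _ _ _ _
  · intro r
    exact pullback.lift_snd _ _ _
  · intro r m h1 h2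
    apply pullback.hom_ext
    · rw [pullback.lift_fst]
      rw [trans, comp_mul] at h1
      have h3 : m ≫ (pullback.snd G.s (z ≫ G.s) ≫ z) ≫ G.i = (r.snd ≫ z) ≫ G.i := by
        rw [← h2]; simp only [Category.assoc]
      rw [mul_congr G _ rfl h3] at h1
      have h4 : mul G (m ≫ pullback.fst G.s (z ≫ G.s)) ((r.snd ≫ z) ≫ G.i) (by
          rw [inv_t, Category.assoc, pullback.condition, ← Category.assoc, h2, Category.assoc]) =
          r.fst := h1
      rw [mul_congr G _ h4.symm rfl]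
      exact (inv_mul_cancel_right G _ _ _ _).symm
    · rw [pullback.lift_snd, h2]

/-- Quasi-finiteness is invariant under translation. -/
lemma qf_trans [LocallyOfFiniteType G.s] (y : T ⟶ G.R) (h : y ≫ G.s = z ≫ G.s)
    (hy : ∀ t, y t ∈ G.s.quasiFiniteLocus) (t : T) :
    mul G y (z ≫ G.i) (by rw [inv_t, h]) t ∈ G.s.quasiFiniteLocus := by
  let a : T ⟶ pullback G.s (z ≫ G.s) := pullback.lift y (𝟙 T) (by rw [Category.id_comp, h])
  have h1 : a ≫ pullback.fst _ _ = y := pullback.lift_fst _ _ _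
  have h2 : a ≫ trans G z = mul G y (z ≫ G.i) (by rw [inv_t, h]) := by
    rw [trans, comp_mul]
    refine mul_congr G _ h1 ?_
    have h3 : a ≫ pullback.snd G.s (z ≫ G.s) = 𝟙 T := pullback.lift_snd _ _ _
    rw [← Category.assoc, ← Category.assoc, h3, Category.id_comp]
  have e1 := Groth.Agent.S9389.result G.s (z ≫ G.s) _ _ (IsPullback.of_hasPullback G.s (z ≫ G.s))
  have e2 := Groth.Agent.S9389.result G.s (z ≫ G.t) _ _ (isPullback_trans G z)
  rw [← h2, Scheme.Hom.comp_apply]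
  have h4 : (pullback.snd G.s (z ≫ G.s)).QuasiFiniteAt (a t) := by
    refine (Set.ext_iff.1 e1 (a t)).2 ?_
    show pullback.fst G.s (z ≫ G.s) (a t) ∈ G.s.quasiFiniteLocus
    rw [← Scheme.Hom.comp_apply, h1]
    exact hy t
  exact (Set.ext_iff.1 e2 (a t)).1 h4

end translation

variable {G} [LocallyOfFiniteType G.s] {d : ℕ} (H : Rep G.s d G.s.quasiFiniteLocus)

namespace Rep

/-- The translated universal family. -/
noncomputable def actFam : Fam G.s d (H.Z.x ≫ G.t) where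
  C := pullback H.Z.p H.Z.p
  x := mul G (pullback.fst _ _ ≫ H.Z.x) ((pullback.snd _ _ ≫ H.Z.x) ≫ G.i) (by
    rw [inv_t, Category.assoc, Category.assoc, H.Z.w, pullback.condition_assoc])
  p := pullback.snd _ _
  w := by rw [mul_s, inv_s, Category.assoc]
  mono a b h1 h2 := by
    apply pullback.hom_ext
    · apply H.Z.mono
      · rw [comp_mul, comp_mul] at h1
        have h3 : b ≫ (pullback.snd H.Z.p H.Z.p ≫ H.Z.x) ≫ G.i =
            a ≫ (pullback.snd H.Z.p H.Z.p ≫ H.Z.x) ≫ G.i := by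
          rw [Category.assoc, ← Category.assoc b, ← h2]
          simp only [Category.assoc]
        have h4 := mul_right_cancel G (a ≫ pullback.fst _ _ ≫ H.Z.x) (b ≫ pullback.fst _ _ ≫ H.Z.x)
          (a ≫ (pullback.snd _ _ ≫ H.Z.x) ≫ G.i) _
          (by
            rw [← h3]
            simp only [Category.assoc]
            rw [G.i_t, H.Z.w, pullback.condition_assoc])
          (h1.trans (mul_congr G _ rfl h3))
        simpa only [Category.assoc] using h4
      · rw [Category.assoc, Category.assoc, pullback.condition, ← Category.assoc, h2,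
          Category.assoc]
    · exact h2
  deg := isFinLocFreeOfDeg_of_isPullback (IsPullback.of_hasPullback _ _) H.Z.deg

lemma exists_act : ∃ v : H.Z.C ⟶ H.H, v ≫ H.π = H.Z.x ≫ G.t ∧
    ∀ {T' : Scheme.{u}} (b : T' ⟶ H.Z.C) (y : T' ⟶ G.R), H.Z.Mem (b ≫ v) y ↔ H.actFam.Mem b y := by
  refine H.exists_map _ H.actFam fun c => ?_
  exact qf_trans G _ _ (by
    rw [Category.assoc, Category.assoc, H.Z.w, pullback.condition_assoc]) (fun t => by
    rw [Scheme.Hom.comp_apply]; exact H.hZ _) c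

/-- The action map `(z, Z) ↦ (t z, Z z⁻¹)`. -/
noncomputable def act : H.Z.C ⟶ H.H := H.exists_act.choose

@[reassoc (attr := simp)]
lemma act_π : H.act ≫ H.π = H.Z.x ≫ G.t := H.exists_act.choose_spec.1

lemma mem_actFam_iff' {T : Scheme.{u}} (b : T ⟶ H.Z.C) (y : T ⟶ G.R) :
    H.actFam.Mem b y ↔ ∃ l : T ⟶ pullback H.Z.p H.Z.p,
      l ≫ mul G (pullback.fst _ _ ≫ H.Z.x) ((pullback.snd _ _ ≫ H.Z.x) ≫ G.i) (by
        rw [inv_t, Category.assoc, Category.assoc, H.Z.w, pullback.condition_assoc]) = y ∧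
      l ≫ pullback.snd _ _ = b := Iff.rfl

lemma mem_actFam_iff {T : Scheme.{u}} (b : T ⟶ H.Z.C) (y : T ⟶ G.R) :
    H.actFam.Mem b y ↔ ∃ (l : T ⟶ H.Z.C) (hl : l ≫ H.Z.p = b ≫ H.Z.p),
      mul G (l ≫ H.Z.x) ((b ≫ H.Z.x) ≫ G.i) (by
        rw [inv_t, Category.assoc, Category.assoc, H.Z.w, reassoc_of% hl]) = y := by
  rw [mem_actFam_iff']
  constructor
  · rintro ⟨l, h1, rfl⟩
    refine ⟨l ≫ pullback.fst _ _, by rw [Category.assoc, Category.assoc, pullback.condition], ?_⟩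
    rw [← h1, comp_mul]
    exact mul_congr G _ (Category.assoc _ _ _) (by simp only [Category.assoc])
  · rintro ⟨l, hl, h1⟩
    refine ⟨pullback.lift l b hl, ?_, pullback.lift_snd _ _ _⟩
    rw [← h1, comp_mul]
    exact mul_congr G _ (pullback.lift_fst_assoc _ _ _ _)
      (by rw [Category.assoc, pullback.lift_snd_assoc, Category.assoc])

lemma mem_act_iff {T : Scheme.{u}} (b : T ⟶ H.Z.C) (y : T ⟶ G.R)
    (hy : y ≫ G.s = (b ≫ H.Z.x) ≫ G.t) :
    H.Z.Mem (b ≫ H.act) y ↔ H.Z.Mem (b ≫ H.Z.p) (mul G y (b ≫ H.Z.x) hy) := by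
  refine (H.exists_act.choose_spec.2 b y).trans ((mem_actFam_iff H b y).trans ?_)
  constructor
  · rintro ⟨l, hl, h1⟩
    refine ⟨l, ?_, hl⟩
    subst h1
    exact (inv_mul_cancel_right G _ _ _ _).symm
  · rintro ⟨l, h1, h2⟩
    refine ⟨l, h2, ?_⟩
    rw [mul_congr G _ h1 rfl]
    exact mul_inv_cancel_right G _ _ _ _

/-- Composition. -/
lemma exists_comp {T : Scheme.{u}} (γ' γ : T ⟶ H.Z.C) (h : γ ≫ H.act = γ' ≫ H.Z.p)
    (h' : (γ' ≫ H.Z.x) ≫ G.s = (γ ≫ H.Z.x) ≫ G.t) :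
    ∃ l : T ⟶ H.Z.C, l ≫ H.Z.x = mul G (γ' ≫ H.Z.x) (γ ≫ H.Z.x) h' ∧ l ≫ H.Z.p = γ ≫ H.Z.p ∧
      l ≫ H.act = γ' ≫ H.act := by
  have h1 : H.Z.Mem (γ ≫ H.act) (γ' ≫ H.Z.x) := ⟨γ', rfl, h.symm⟩
  rw [mem_act_iff H γ _ h'] at h1
  obtain ⟨l, hl1, hl2⟩ := h1
  refine ⟨l, hl1, hl2, ?_⟩
  apply H.ext
  · rw [Category.assoc, Category.assoc, act_π, ← Category.assoc, hl1, mul_t, Category.assoc]
  · intro T' b y
    have key : ∀ hy : y ≫ G.s = ((b ≫ γ') ≫ H.Z.x) ≫ G.t,
        (H.Z.Mem (b ≫ l ≫ H.act) y ↔ H.Z.Mem (b ≫ γ' ≫ H.act) y) := by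
      intro hy
      have hl : (b ≫ l) ≫ H.Z.x = mul G ((b ≫ γ') ≫ H.Z.x) ((b ≫ γ) ≫ H.Z.x) (by
          simp only [Category.assoc] at h' ⊢; rw [h']) := by
        rw [Category.assoc, hl1, comp_mul]
        exact mul_congr G _ (Category.assoc _ _ _).symm (Category.assoc _ _ _).symm
      have hy1 : y ≫ G.s = ((b ≫ l) ≫ H.Z.x) ≫ G.t := by rw [hl, mul_t]; exact hy
      rw [← Category.assoc, ← Category.assoc, mem_act_iff H _ y hy1, mem_act_iff H _ y hy]
      have hy2 : mul G y ((b ≫ γ') ≫ H.Z.x) hy ≫ G.s = ((b ≫ γ) ≫ H.Z.x) ≫ G.t := by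
        rw [mul_s]
        simp only [Category.assoc] at h' ⊢; rw [h']
      have h2 := mem_act_iff H (b ≫ γ) _ hy2
      rw [show (b ≫ γ) ≫ H.act = (b ≫ γ') ≫ H.Z.p by rw [Category.assoc, h, Category.assoc]] at h2
      rw [h2]
      rw [mul_assoc' G, mul_congr G _ rfl hl]
      rw [show (b ≫ l) ≫ H.Z.p = (b ≫ γ) ≫ H.Z.p by rw [Category.assoc, hl2, Category.assoc]]
    constructor
    · intro hm
      refine (key ?_).1 hm
      have h3 := hm.w
      rw [h3]
      simp only [Category.assoc, act_π]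
      rw [← Category.assoc l, hl1, mul_t, Category.assoc]
    · intro hm
      refine (key ?_).2 hm
      have h3 := hm.w
      rw [h3]
      simp only [Category.assoc, act_π]

/-- Identities. -/
lemma act_of_e {T : Scheme.{u}} (l : T ⟶ H.Z.C) (v : T ⟶ H.H) (h1 : l ≫ H.Z.x = v ≫ H.π ≫ G.e)
    (h2 : l ≫ H.Z.p = v) : l ≫ H.act = v := by
  apply H.ext
  · rw [Category.assoc, act_π, ← Category.assoc, h1, Category.assoc, Category.assoc, G.e_t,
      Category.comp_id]
  · intro T' b y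
    have key : ∀ hy : y ≫ G.s = ((b ≫ l) ≫ H.Z.x) ≫ G.t,
        (H.Z.Mem (b ≫ l ≫ H.act) y ↔ H.Z.Mem (b ≫ v) y) := by
      intro hy
      rw [← Category.assoc, mem_act_iff H _ y hy]
      have h3 : (b ≫ l) ≫ H.Z.x = (b ≫ v ≫ H.π) ≫ G.e := by
        rw [Category.assoc, h1]; simp only [Category.assoc]
      rw [mul_congr G _ rfl h3, mul_e, Category.assoc, h2]
    have h4 : (l ≫ H.Z.x) ≫ G.t = v ≫ H.π := by
      rw [h1, Category.assoc, Category.assoc, G.e_t, Category.comp_id]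
    constructor
    · intro hm
      refine (key ?_).1 hm
      rw [hm.w]
      simp only [Category.assoc, act_π]
    · intro hm
      refine (key ?_).2 hm
      rw [hm.w]
      simp only [Category.assoc] at h4 ⊢
      rw [h4]

/-- The identity is always a member of the target of an arrow. -/
lemma mem_act_e {T : Scheme.{u}} (γ : T ⟶ H.Z.C) :
    H.Z.Mem (γ ≫ H.act) ((γ ≫ H.Z.x ≫ G.t) ≫ G.e) := by
  rw [mem_act_iff H γ _ (by simp), e_mul]
  exact ⟨γ, rfl, rfl⟩

/-- Inverses. -/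
lemma exists_inv {T : Scheme.{u}} (γ : T ⟶ H.Z.C)
    (he : H.Z.Mem (γ ≫ H.Z.p) ((γ ≫ H.Z.p ≫ H.π) ≫ G.e)) :
    ∃ l : T ⟶ H.Z.C, l ≫ H.Z.x = (γ ≫ H.Z.x) ≫ G.i ∧ l ≫ H.Z.p = γ ≫ H.act ∧
      l ≫ H.act = γ ≫ H.Z.p := by
  have hs : ((γ ≫ H.Z.x) ≫ G.i) ≫ G.s = (γ ≫ H.Z.x) ≫ G.t := inv_s G _
  have h1 : H.Z.Mem (γ ≫ H.act) ((γ ≫ H.Z.x) ≫ G.i) := by
    rw [mem_act_iff H γ _ hs, inv_mul, Category.assoc γ, H.Z.w]
    exact he
  obtain ⟨l, hl1, hl2⟩ := h1
  refine ⟨l, hl1, hl2, ?_⟩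
  apply H.ext
  · rw [Category.assoc, act_π, ← Category.assoc, hl1, inv_t, Category.assoc, H.Z.w, Category.assoc]
  · intro T' b y
    have key : ∀ hy : y ≫ G.s = ((b ≫ l) ≫ H.Z.x) ≫ G.t,
        (H.Z.Mem (b ≫ l ≫ H.act) y ↔ H.Z.Mem (b ≫ γ ≫ H.Z.p) y) := by
      intro hy
      have hl : (b ≫ l) ≫ H.Z.x = ((b ≫ γ) ≫ H.Z.x) ≫ G.i := by
        rw [Category.assoc, hl1]; simp only [Category.assoc]
      rw [← Category.assoc, mem_act_iff H _ y hy]
      have hy2 : mul G y ((b ≫ l) ≫ H.Z.x) hy ≫ G.s = ((b ≫ γ) ≫ H.Z.x) ≫ G.t := by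
        rw [mul_s, hl, inv_s]
      have h2 := mem_act_iff H (b ≫ γ) _ hy2
      rw [show (b ≫ l) ≫ H.Z.p = (b ≫ γ) ≫ H.act by rw [Category.assoc, hl2, Category.assoc], h2]
      have hy3 : y ≫ G.s = (((b ≫ γ) ≫ H.Z.x) ≫ G.i) ≫ G.t := by rw [hy, hl]
      have h3 : mul G (mul G y ((b ≫ l) ≫ H.Z.x) hy) ((b ≫ γ) ≫ H.Z.x) hy2 = y := by
        rw [mul_congr G _ (mul_congr G _ rfl hl) rfl]
        exact inv_mul_cancel_right G _ _ hy3 _
      rw [h3, Category.assoc]
    have h4 : (l ≫ H.Z.x) ≫ G.t = γ ≫ H.Z.p ≫ H.π := by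
      rw [hl1, inv_t, Category.assoc, H.Z.w]
    constructor
    · intro hm
      refine (key ?_).1 hm
      rw [hm.w]
      simp only [Category.assoc, act_π]
    · intro hm
      refine (key ?_).2 hm
      rw [hm.w]
      simp only [Category.assoc] at h4 ⊢
      rw [h4]

end Rep

end K394.FinFam
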