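import Groth.Agent.Grpd.K394.FinEq
import Groth.Agent.Grpsch.EtLoc
import Groth.Agent.AlgSp.K597.EtLoc
import Groth.Agent.S9389
import Groth.Agent.FlatA.FinsetAffine

/-!
# Etale charts of the Hilbert scheme at open families
-/

set_option autoImplicit false
set_option backward.isDefEq.respectTransparency false
set_option backward.isDefEq.respectTransparency.types false
universe u

open CategoryTheory CategoryTheory.Limits AlgebraicGeometry

namespace K394.FinFam

open Groth.Agent.Picfga.HilbPull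

variable {X S : Scheme.{u}} {f : X ⟶ S} {d : ℕ}

namespace Rep

variable {Q : X.Opens} (R : Rep f d Q) [IsSeparated f] {U : Scheme.{u}} {g : U ⟶ S} (F : Fam f d g)
  (hF : F.Open) {h : U ⟶ R.H} (hg : h ≫ R.π = g)
  (hh : ∀ {T : Scheme.{u}} (b : T ⟶ U) (y : T ⟶ X), R.Z.Mem (b ≫ h) y ↔ F.Mem b y)

include hF hg hh in
/-- The classifying map of an open family over an étale `S`-scheme is étale. -/
theorem etale_chart [Etale g] : Etale h := by
  let p₁ := pullback.fst R.π g
  let p₂ := pullback.snd R.π g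
  have e0 : p₂ ≫ g = p₁ ≫ R.π := pullback.condition.symm
  let F₂ : Fam f d (p₁ ≫ R.π) := (F.pull p₂).cast e0
  have hF₂ : F₂.Open := (hF.pull p₂).cast e0
  have m₂ : ∀ {T' T : Scheme.{u}} (a : T' ⟶ pullback R.π g) (b : T ⟶ T') (y : T ⟶ X),
      F₂.Mem (b ≫ a) y ↔ R.Z.Mem (b ≫ a ≫ p₂ ≫ h) y := by
    intro T' T a b y
    rw [Fam.mem_cast_iff, Fam.mem_pull_iff, ← hh]
    simp only [Category.assoc]
  have m₁ : ∀ {T' T : Scheme.{u}} (a : T' ⟶ pullback R.π g) (b : T ⟶ T') (y : T ⟶ X),
      (R.Z.pull p₁).Mem (b ≫ a) y ↔ R.Z.Mem (b ≫ a ≫ p₁) y := by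
    intro T' T a b y
    rw [Fam.mem_pull_iff, Category.assoc]
  obtain ⟨D, -, hD⟩ := Fam.exists_clopen (R.Z.pull p₁) F₂ hF₂
  let τ : U ⟶ pullback R.π g := pullback.lift h (𝟙 U) (by rw [hg, Category.id_comp])
  have hτ₁ : τ ≫ p₁ = h := pullback.lift_fst _ _ _
  have hτ₂ : τ ≫ p₂ = 𝟙 U := pullback.lift_snd _ _ _
  have hτD : Set.range τ ⊆ D := (hD τ).2 fun {T''} b y => by
    rw [m₁, m₂, hτ₁, ← Category.assoc τ, hτ₂, Category.id_comp]
  have hDι : ∀ {T'' : Scheme.{u}} (b : T'' ⟶ D.toScheme) (y : T'' ⟶ X),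
      (R.Z.pull p₁).Mem (b ≫ D.ι) y ↔ F₂.Mem (b ≫ D.ι) y :=
    (hD D.ι).1 (by rw [Scheme.Opens.range_ι])
  have hpp : D.ι ≫ p₂ ≫ h = D.ι ≫ p₁ := by
    apply R.ext
    · rw [Category.assoc, Category.assoc, Category.assoc, hg, e0]
    · intro T' b y
      rw [← m₂, ← m₁]
      exact (hDι b y).symm
  let τ' : U ⟶ D.toScheme := IsOpenImmersion.lift D.ι τ (by rwa [Scheme.Opens.range_ι])
  have hτ' : τ' ≫ D.ι = τ := IsOpenImmersion.lift_fac _ _ _
  have hiso : IsIso τ' := by
    refine ⟨⟨D.ι ≫ p₂, ?_, ?_⟩⟩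
    · rw [← Category.assoc, hτ', hτ₂]
    · rw [← cancel_mono D.ι, Category.assoc, hτ', Category.id_comp, Category.assoc]
      apply pullback.hom_ext
      · rw [Category.assoc, Category.assoc]
        erw [hτ₁]
        exact hpp
      · rw [Category.assoc, Category.assoc]
        erw [hτ₂, Category.comp_id]
  have h1 : IsOpenImmersion τ := by
    rw [← hτ']
    infer_instance
  have h2 : Etale p₁ := MorphismProperty.pullback_fst (P := @Etale) _ _ inferInstance
  rw [← hτ₁]
  infer_instance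

/-- The image of an étale chart. -/
def img (h : U ⟶ R.H) [Etale h] : R.H.Opens := ⟨Set.range h, h.isOpenMap.isOpen_range⟩

variable {R}

/-- The map onto the image. -/
noncomputable def toImg (h : U ⟶ R.H) [Etale h] : U ⟶ (img R h).toScheme :=
  IsOpenImmersion.lift (img R h).ι h (by rw [Scheme.Opens.range_ι]; rfl)

@[reassoc (attr := simp)]
lemma toImg_ι (h : U ⟶ R.H) [Etale h] : toImg h ≫ (img R h).ι = h := IsOpenImmersion.lift_fac _ _ _

instance (h : U ⟶ R.H) [Etale h] : Etale (toImg h) := by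
  have : Etale (toImg h ≫ (img R h).ι) := by rw [toImg_ι]; infer_instance
  exact MorphismProperty.of_postcomp (W := @Etale) (W' := @Etale) _ (img R h).ι inferInstance this

instance (h : U ⟶ R.H) [Etale h] : Surjective (toImg h) := by
  refine ⟨fun ⟨y, hy⟩ => ?_⟩
  obtain ⟨x, rfl⟩ := hy
  refine ⟨x, ?_⟩
  apply (img R h).ι.isOpenEmbedding.injective
  rw [← Scheme.Hom.comp_apply, toImg_ι]
  rfl

include hg in
/-- The Hilbert scheme is étale over `S` on the image of the chart. -/
theorem etale_img [Etale h] [Etale g] : Etale ((img R h).ι ≫ R.π) := by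
  refine K597.etLoc_etale.descend (toImg h) _ inferInstance inferInstance ?_
  rw [← Category.assoc, toImg_ι, hg]
  infer_instance

include hF hg hh in
/-- The universal family is open over the image of the chart. -/
theorem open_img [Etale h] : (R.Z.pull (img R h).ι).Open := by
  have h1 : ((R.Z.pull (img R h).ι).pull (toImg h)).Open := by
    have e0 : toImg h ≫ (img R h).ι ≫ R.π = g := by
      rw [← Category.assoc, toImg_ι, hg]
    obtain ⟨e, he1, he2⟩ := Fam.exists_iso_of_mem_iff
      (((R.Z.pull (img R h).ι).pull (toImg h)).cast e0) F (fun a y => by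
        rw [Fam.mem_cast_iff, Fam.mem_pull_iff, Fam.mem_pull_iff, ← hh]
        simp only [Category.assoc, toImg_ι])
    have h2 : (((R.Z.pull (img R h).ι).pull (toImg h)).cast e0).Open := by
      have h3 : IsOpenImmersion F.lift := hF
      have h4 : (((R.Z.pull (img R h).ι).pull (toImg h)).cast e0).lift = e.hom ≫ F.lift := by
        apply pullback.hom_ext
        · rw [Category.assoc, pullback.lift_fst, pullback.lift_fst, he1]
        · rw [Category.assoc, pullback.lift_snd, pullback.lift_snd, he2]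
      have h5 : IsOpenImmersion (e.hom ≫ F.lift) := inferInstance
      rw [← h4] at h5
      exact h5
    exact h2.cast e0.symm
  have h2 := Fam.isPullback_lift (R.Z.pull (img R h).ι) (toImg h)
  refine MorphismProperty.of_isPullback_of_descendsAlong (P := @IsOpenImmersion)
    (Q := @Surjective ⊓ @Flat ⊓ @LocallyOfFinitePresentation) h2.flip ?_ h1
  have h3 := isPullback_bc f ((img R h).ι ≫ R.π) (toImg h)
  refine ⟨⟨?_, ?_⟩, ?_⟩
  · exact MorphismProperty.of_isPullback (P := @Surjective) h3.flip inferInstance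
  · exact MorphismProperty.of_isPullback (P := @Flat) h3.flip inferInstance
  · exact MorphismProperty.of_isPullback (P := @LocallyOfFinitePresentation) h3.flip inferInstance

end Rep

/-- Representability of families contained in the quasi-finite locus, over an affine base. -/
theorem exists_rep_quasiFiniteLocus (f : X ⟶ S) [IsSeparated f] [LocallyOfFiniteType f] [IsAffine S]
    (d : ℕ) : Nonempty (Rep f d f.quasiFiniteLocus) := by
  classical
  refine exists_rep f d f.quasiFiniteLocus ?_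
  refine Groth.Agent.Picfga.HilbSep.representable_of_isSeparated _ d fun s x _ => ?_
  obtain ⟨V, hV, hx⟩ := Groth.Agent.FlatA.FinsetAffine.exists_isAffineOpen
    (f.quasiFiniteLocus.ι ≫ f) (Finset.univ.image x)
  exact ⟨V, hV, fun i => hx _ (Finset.mem_image_of_mem _ (Finset.mem_univ i))⟩

open Groth.Agent.Grpsch.EtLoc in
/-- Existence of open families on étale neighbourhoods. -/
theorem exists_chart (f : X ⟶ S) [IsSeparated f] [LocallyOfFinitePresentation f] [Flat f]
    (σ : S ⟶ X) (hσ : σ ≫ f = 𝟙 S) (u : S) (F : Set X) (hF : F.Finite) (hFu : ∀ x ∈ F, f x = u)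
    (hq : ∀ x ∈ F, f.QuasiFiniteAt x) (hσF : σ u ∈ F) :
    ∃ (S' : Scheme.{u}) (g : S' ⟶ S) (p' : S') (_ : Hens2.IsEtaleNbhd g p' u) (d : ℕ)
      (F₂ : Fam f d g), F₂.Open ∧ (∀ c, F₂.x c ∈ f.quasiFiniteLocus) ∧ F₂.Mem (𝟙 S') (g ≫ σ) ∧
      (∀ c : F₂.C, F₂.p c = p' → F₂.x c ∈ F) ∧
      (∀ y : ↥(pullback f g), pullback.snd f g y = p' → pullback.fst f g y ∈ F →
        y ∈ Set.range F₂.lift) := by
  obtain ⟨S₁, g₁, p₁, hn₁, V, hVc, hVf, hV⟩ := exists_etaleNbhd_isFinite_of_finite f u F hF hFu hq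
  have e1 : Etale g₁ := hn₁.etale
  -- the open of `S₁`
  let d := (V.ι ≫ pullback.snd f g₁).finrank p₁
  let sec : S₁ ⟶ pullback f g₁ := pullback.lift (g₁ ≫ σ) (𝟙 S₁) (by
    rw [Category.assoc, hσ, Category.comp_id, Category.id_comp])
  have hlc : IsLocallyConstant (V.ι ≫ pullback.snd f g₁).finrank :=
    Scheme.Hom.isLocallyConstant_finrank _
  let O : S₁.Opens := (sec ⁻¹ᵁ V) ⊓ ⟨_, hlc.isOpen_fiber d⟩
  have hgp : g₁ p₁ = u := hn₁.base_eq
  have hp₁ : p₁ ∈ O := by
    refine ⟨?_, rfl⟩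
    show sec p₁ ∈ V
    refine (hV _ ?_).2 ?_
    · rw [← Scheme.Hom.comp_apply, pullback.lift_snd]; rfl
    · rw [← Scheme.Hom.comp_apply, pullback.lift_fst, Scheme.Hom.comp_apply, hgp]
      exact hσF
  let F₁ : Fam f d (O.ι ≫ g₁) :=
    { C := pullback (V.ι ≫ pullback.snd f g₁) O.ι
      x := pullback.fst _ _ ≫ V.ι ≫ pullback.fst f g₁
      p := pullback.snd _ _
      w := by
        rw [Category.assoc, Category.assoc, pullback.condition, ← Category.assoc (V.ι),
          pullback.condition_assoc]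
      mono := fun a b h1 h2 => by
        apply pullback.hom_ext
        · rw [← cancel_mono V.ι]
          apply pullback.hom_ext
          · simpa only [Category.assoc] using h1
          · have h3 := congrArg (· ≫ O.ι) h2
            simpa only [Category.assoc, ← pullback.condition] using h3
        · exact h2
      deg := by
        refine ⟨⟨inferInstance, inferInstance, inferInstance⟩, fun y => ?_⟩
        rw [Scheme.Hom.finrank_pullback_snd]
        exact y.2.2 }
  have hF₁p : ∀ c : F₁.C, pullback.snd f g₁ ((pullback.fst _ _ ≫ V.ι : F₁.C ⟶ _) c) =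
      O.ι (F₁.p c) := by
    intro c
    rw [← Scheme.Hom.comp_apply, ← Scheme.Hom.comp_apply, Category.assoc]
    exact congrArg (fun m : F₁.C ⟶ S₁ => m c) pullback.condition
  refine ⟨O.toScheme, O.ι ≫ g₁, ⟨p₁, hp₁⟩, ?_, d, F₁, ?_, ?_, ?_, ?_, ?_⟩
  · exact IsEtaleNbhd.comp (isEtaleNbhd_of_isOpenImmersion O.ι ⟨p₁, hp₁⟩) hn₁
  · -- openness
    have sq : IsPullback (pullback.fst (V.ι ≫ pullback.snd f g₁) O.ι) F₁.lift V.ι (bc f g₁ O.ι) := by
      refine IsPullback.of_bot (h₂₁ := bc f g₁ O.ι)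
        (v₂₁ := pullback.snd f (O.ι ≫ g₁))
        (v₂₂ := pullback.snd f g₁) (h₃₁ := O.ι) ?_ ?_ (isPullback_bc f g₁ O.ι)
      · rw [pullback.lift_snd]
        exact IsPullback.of_hasPullback _ _
      · apply pullback.hom_ext
        · rw [Category.assoc, Category.assoc, bc_fst, pullback.lift_fst]
        · rw [Category.assoc, Category.assoc, bc_snd, pullback.lift_snd_assoc, pullback.condition]
    exact MorphismProperty.of_isPullback (P := @IsOpenImmersion) sq inferInstance
  · -- quasi-finiteness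
    intro c
    have h1 : (pullback.snd f g₁).QuasiFiniteAt ((pullback.fst _ _ ≫ V.ι : F₁.C ⟶ _) c) := by
      rw [Scheme.Hom.comp_apply]
      rw [← Scheme.Hom.quasiFiniteAt_comp_iff_of_isOpenImmersion]
      exact Scheme.Hom.quasiFiniteAt (V.ι ≫ pullback.snd f g₁) _
    have h2 := (Set.ext_iff.1 (Groth.Agent.S9389.result f g₁ _ _
      (IsPullback.of_hasPullback f g₁)) _).1 h1
    exact h2
  · -- the section
    have hr : Set.range (O.ι ≫ sec) ⊆ Set.range V.ι := by
      rintro _ ⟨y, rfl⟩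
      rw [Scheme.Opens.range_ι]
      exact y.2.1
    refine ⟨pullback.lift (IsOpenImmersion.lift V.ι (O.ι ≫ sec) hr) (𝟙 _) ?_, ?_, ?_⟩
    · rw [IsOpenImmersion.lift_fac_assoc, Category.assoc, pullback.lift_snd, Category.id_comp,
        Category.comp_id]
    · show pullback.lift _ _ _ ≫ pullback.fst _ _ ≫ V.ι ≫ pullback.fst f g₁ = _
      rw [pullback.lift_fst_assoc, IsOpenImmersion.lift_fac_assoc, Category.assoc,
        pullback.lift_fst, Category.assoc]
    · exact pullback.lift_snd _ _ _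
  · intro c hc
    have h1 : F₁.x c = pullback.fst f g₁ ((pullback.fst _ _ ≫ V.ι : F₁.C ⟶ _) c) := by
      rw [← Scheme.Hom.comp_apply, Category.assoc]
    rw [h1]
    refine (hV _ ?_).1 ?_
    · rw [hF₁p, hc]; rfl
    · rw [Scheme.Hom.comp_apply]
      exact (pullback.fst (V.ι ≫ pullback.snd f g₁) O.ι c).2
  · intro y hy1 hy2
    have h1 : bc f g₁ O.ι y ∈ V := by
      refine (hV _ ?_).2 ?_
      · rw [← Scheme.Hom.comp_apply, bc_snd, Scheme.Hom.comp_apply, hy1]; rfl
      · rw [← Scheme.Hom.comp_apply, bc_fst]; exact hy2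
    have sq : IsPullback (pullback.fst (V.ι ≫ pullback.snd f g₁) O.ι) F₁.lift V.ι (bc f g₁ O.ι) := by
      refine IsPullback.of_bot (h₂₁ := bc f g₁ O.ι)
        (v₂₁ := pullback.snd f (O.ι ≫ g₁))
        (v₂₂ := pullback.snd f g₁) (h₃₁ := O.ι) ?_ ?_ (isPullback_bc f g₁ O.ι)
      · rw [pullback.lift_snd]
        exact IsPullback.of_hasPullback _ _
      · apply pullback.hom_ext
        · rw [Category.assoc, Category.assoc, bc_fst, pullback.lift_fst]
        · rw [Category.assoc, Category.assoc, bc_snd, pullback.lift_snd_assoc, pullback.condition]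
    obtain ⟨z, hz1, hz2⟩ := Scheme.exists_preimage_of_isPullback sq ⟨_, h1⟩ y rfl
    exact ⟨z, hz2⟩

end K394.FinFam
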