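import Groth.Agent.Grpd.K394.FinFam
import Groth.Agent.BTGrp.K787.QuotDeg

/-!
# The equality locus of a family with an open family
-/

set_option autoImplicit false
set_option backward.isDefEq.respectTransparency false
set_option backward.isDefEq.respectTransparency.types false
universe u

open CategoryTheory CategoryTheory.Limits AlgebraicGeometry

namespace K394.FinFam

open Groth.Agent.Picfga.HilbPull

/-- A closed immersion between finite locally free schemes of the same degree is an isomorphism. -/
theorem isIso_of_deg_eq {X Y T : Scheme.{u}} {d : ℕ} (i : X ⟶ Y) (g : Y ⟶ T) [IsClosedImmersion i]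
    (h : Mor2.IsFinLocFreeOfDeg d g) (h' : Mor2.IsFinLocFreeOfDeg d (i ≫ g)) : IsIso i := by
  change MorphismProperty.isomorphisms _ _
  refine (IsZariskiLocalAtTarget.iff_of_openCover (T.affineCover.pullback₁ g)).2 fun j => ?_
  change IsIso (pullback.snd i (pullback.fst g (T.affineCover.f j)))
  have sq := IsPullback.of_hasPullback i (pullback.fst g (T.affineCover.f j))
  have sq2 := IsPullback.of_hasPullback g (T.affineCover.f j)
  have sq3 := sq.flip.paste_horiz sq2.flip
  have h1 := isFinLocFreeOfDeg_of_isPullback sq2 h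
  have h2 := isFinLocFreeOfDeg_of_isPullback sq3.flip h'
  have i1 : IsClosedImmersion (pullback.snd i (pullback.fst g (T.affineCover.f j))) :=
    MorphismProperty.of_isPullback (P := @IsClosedImmersion) sq ‹_›
  obtain ⟨⟨a1, a2, a3⟩, a4⟩ := h1
  obtain ⟨⟨b1, b2, b3⟩, b4⟩ := h2
  exact K787.BTKer.isIso_of_finrank_eq _ (pullback.snd g (T.affineCover.f j))
    (fun s => (b4 s).trans (a4 s).symm)

section bc

variable {X S : Scheme.{u}} (f : X ⟶ S) {T T' : Scheme.{u}} (g : T ⟶ S) (a : T' ⟶ T)

/-- Base change map. -/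
noncomputable def bc : pullback f (a ≫ g) ⟶ pullback f g :=
  pullback.lift (pullback.fst _ _) (pullback.snd _ _ ≫ a) (by rw [pullback.condition, Category.assoc])

@[reassoc]
lemma bc_fst : bc f g a ≫ pullback.fst f g = pullback.fst _ _ := pullback.lift_fst _ _ _

@[reassoc]
lemma bc_snd : bc f g a ≫ pullback.snd f g = pullback.snd _ _ ≫ a := pullback.lift_snd _ _ _

lemma isPullback_bc : IsPullback (bc f g a) (pullback.snd f (a ≫ g)) (pullback.snd f g) a := by
  refine IsPullback.of_right (h₁₂ := pullback.fst f g) (v₁₃ := f) (h₂₂ := g) ?_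
    (bc_snd f g a) (IsPullback.of_hasPullback f g)
  rw [bc_fst]
  exact IsPullback.of_hasPullback f (a ≫ g)

end bc

namespace Fam

variable {X S : Scheme.{u}} {f : X ⟶ S} {d : ℕ} {T T' : Scheme.{u}} {g : T ⟶ S}

/-- The family is open in `X ×_S T`. -/
def Open (F : Fam f d g) : Prop := IsOpenImmersion (pullback.lift F.x F.p F.w : F.C ⟶ pullback f g)

/-- The map to `X ×_S T`. -/
noncomputable abbrev lift (F : Fam f d g) : F.C ⟶ pullback f g := pullback.lift F.x F.p F.w

lemma isPullback_lift (F : Fam f d g) (a : T' ⟶ T) :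
    IsPullback (pullback.fst F.p a) (F.pull a).lift F.lift (bc f g a) := by
  refine IsPullback.of_bot (h₂₁ := bc f g a)
      (v₂₁ := pullback.snd f (a ≫ g))
      (v₂₂ := pullback.snd f g) (h₃₁ := a) ?_ ?_ (isPullback_bc f g a)
  · rw [pullback.lift_snd, pullback.lift_snd]
    exact (IsPullback.of_hasPullback F.p a)
  · apply pullback.hom_ext
    · rw [Category.assoc, Category.assoc, bc_fst, pullback.lift_fst, pullback.lift_fst]
      rfl
    · rw [Category.assoc, Category.assoc, bc_snd, pullback.lift_snd, pullback.lift_snd_assoc]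
      exact pullback.condition

lemma Open.pull {F : Fam f d g} (hF : F.Open) (a : T' ⟶ T) : (F.pull a).Open :=
  MorphismProperty.of_isPullback (P := @IsOpenImmersion) (isPullback_lift F a) hF

lemma Open.cast {F : Fam f d g} (hF : F.Open) {g' : T ⟶ S} (h : g = g') : (F.cast h).Open := by
  subst h
  exact hF

/-- The complement of the locus where `F` is contained in the open family `F'`. -/
theorem exists_clopen [IsSeparated f] (F F' : Fam f d g) (hF' : F'.Open) :
    ∃ D : T.Opens, IsClosed (D : Set T) ∧ ∀ {T' : Scheme.{u}} (a : T' ⟶ T),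
      Set.range a ⊆ D ↔ ∀ {T'' : Scheme.{u}} (b : T'' ⟶ T') (y : T'' ⟶ X),
        F.Mem (b ≫ a) y ↔ F'.Mem (b ≫ a) y := by
  have h1 : IsOpenImmersion F'.lift := hF'
  have h2 : IsClosedImmersion F'.lift := F'.isClosedImmersion_lift
  let K : Set F.C := F.lift ⁻¹' (Set.range F'.lift)ᶜ
  have hK : IsClosed K := (isOpen_compl_iff.1 (by
    have : IsOpen (Set.range F'.lift) := F'.lift.isOpenEmbedding.isOpen_range
    rwa [compl_compl])).preimage F.lift.continuous
  have hK' : IsOpen K := (F'.lift.isClosedEmbedding.isClosed_range.isOpen_compl).preimage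
    F.lift.continuous
  have h3 := F.deg.1.1
  have h4 := F.deg.1.2.1
  have h5 := F.deg.1.2.2
  have hc : IsClosed (F.p '' K) := F.p.isClosedMap _ hK
  have ho : IsOpen (F.p '' K) := F.p.isOpenMap _ hK'
  refine ⟨⟨(F.p '' K)ᶜ, hc.isOpen_compl⟩, ho.isClosed_compl, fun {T'} a => ⟨fun ha => ?_, fun ha => ?_⟩⟩
  · -- the comparison isomorphism
    have hr : Set.range (pullback.fst F.p a ≫ F.lift) ⊆ Set.range F'.lift := by
      rintro _ ⟨c, rfl⟩
      by_contra hcon
      have hc' : pullback.fst F.p a c ∈ K := fun h => hcon (by rwa [Scheme.Hom.comp_apply])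
      have h6 : a (pullback.snd F.p a c) ∈ F.p '' K := by
        refine ⟨_, hc', ?_⟩
        rw [← Scheme.Hom.comp_apply, pullback.condition, Scheme.Hom.comp_apply]
      exact ha ⟨_, rfl⟩ h6
    let m : pullback F.p a ⟶ F'.C := IsOpenImmersion.lift F'.lift _ hr
    have hm : m ≫ F'.lift = pullback.fst F.p a ≫ F.lift := IsOpenImmersion.lift_fac _ _ _
    have hmx : m ≫ F'.x = pullback.fst F.p a ≫ F.x := by
      have := congrArg (· ≫ pullback.fst f g) hm
      simpa [lift] using this
    have hmp : m ≫ F'.p = pullback.snd F.p a ≫ a := by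
      have := congrArg (· ≫ pullback.snd f g) hm
      rw [← pullback.condition]
      simpa [lift] using this
    let n : (F.pull a).C ⟶ (F'.pull a).C := pullback.lift m (pullback.snd F.p a) hmp
    have hn1 : n ≫ (F'.pull a).x = (F.pull a).x := by
      show n ≫ pullback.fst F'.p a ≫ F'.x = _
      rw [← Category.assoc]
      have : n ≫ pullback.fst F'.p a = m := pullback.lift_fst _ _ _
      rw [this]
      exact hmx
    have hn2 : n ≫ (F'.pull a).p = (F.pull a).p := pullback.lift_snd _ _ _
    have hn3 : IsClosedImmersion n := by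
      have h7 : n ≫ (F'.pull a).lift = (F.pull a).lift := by
        apply pullback.hom_ext
        · rw [Category.assoc, pullback.lift_fst, pullback.lift_fst, hn1]
        · rw [Category.assoc, pullback.lift_snd, pullback.lift_snd, hn2]
      have h8 : IsClosedImmersion (n ≫ (F'.pull a).lift) := by
        rw [h7]; exact (F.pull a).isClosedImmersion_lift
      have h9 : IsClosedImmersion (F'.pull a).lift := (F'.pull a).isClosedImmersion_lift
      exact IsClosedImmersion.of_comp n (F'.pull a).lift
    have hn4 : IsIso n := isIso_of_deg_eq n (F'.pull a).p (F'.pull a).deg (by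
      rw [hn2]; exact (F.pull a).deg)
    intro T'' b y
    rw [← mem_pull_iff, ← mem_pull_iff]
    constructor
    · rintro ⟨l, e1, e2⟩
      exact ⟨l ≫ n, by rw [Category.assoc, hn1, e1], by rw [Category.assoc, hn2, e2]⟩
    · rintro ⟨l, e1, e2⟩
      refine ⟨l ≫ inv n, ?_, ?_⟩
      · rw [Category.assoc, ← e1]
        congr 1
        rw [IsIso.inv_comp_eq, hn1]
      · rw [Category.assoc, ← e2]
        congr 1
        rw [IsIso.inv_comp_eq, hn2]
  · rintro _ ⟨t, rfl⟩ ⟨c, hc, hct⟩
    obtain ⟨z, hz1, hz2⟩ := Scheme.Pullback.exists_preimage_pullback c t hct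
    have h6 : F.Mem (pullback.snd F.p a ≫ a) (pullback.fst F.p a ≫ F.x) :=
      ⟨pullback.fst F.p a, rfl, pullback.condition⟩
    rw [ha] at h6
    obtain ⟨l, hl1, hl2⟩ := h6
    have h7 : l ≫ F'.lift = pullback.fst F.p a ≫ F.lift := by
      apply pullback.hom_ext
      · rw [Category.assoc, Category.assoc, pullback.lift_fst, pullback.lift_fst, hl1]
      · rw [Category.assoc, Category.assoc, pullback.lift_snd, pullback.lift_snd, hl2,
          pullback.condition]
    apply hc
    refine ⟨l z, ?_⟩
    rw [← Scheme.Hom.comp_apply, h7, Scheme.Hom.comp_apply, hz1]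

end Fam

end K394.FinFam
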