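import Groth.Agent.Picfga.HilbTriple
import Groth.Agent.Picfga.HilbSep
import Mathlib.AlgebraicGeometry.Morphisms.Finite
import Mathlib.AlgebraicGeometry.ZariskisMainTheorem

/-!
# Families of finite closed subschemes in triple form and the Hilbert scheme of points
-/

set_option autoImplicit false
set_option backward.isDefEq.respectTransparency false
set_option backward.isDefEq.respectTransparency.types false
universe u

open CategoryTheory CategoryTheory.Limits AlgebraicGeometry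

namespace K394.FinFam

open Groth.Agent.Picfga.HilbPull Groth.Agent.Picfga.HilbTriple

variable {X S : Scheme.{u}} (f : X ⟶ S) (d : ℕ)

/-- A family of closed subschemes of `X` over `S`, finite locally free of degree `d` over the base
`T`. -/
structure Fam {T : Scheme.{u}} (g : T ⟶ S) where
  /-- total space -/
  C : Scheme.{u}
  x : C ⟶ X
  p : C ⟶ T
  w : x ≫ f = p ≫ g
  mono : ∀ {T' : Scheme.{u}} (a b : T' ⟶ C), a ≫ x = b ≫ x → a ≫ p = b ≫ p → a = b
  deg : Mor2.IsFinLocFreeOfDeg d p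

namespace Fam

variable {f d} {T T' T'' : Scheme.{u}} {g : T ⟶ S} (F : Fam f d g)

/-- Membership of a `T'`-point in the family. -/
def Mem (a : T' ⟶ T) (y : T' ⟶ X) : Prop := ∃ l : T' ⟶ F.C, l ≫ F.x = y ∧ l ≫ F.p = a

lemma Mem.comp {a : T' ⟶ T} {y : T' ⟶ X} (h : F.Mem a y) (b : T'' ⟶ T') :
    F.Mem (b ≫ a) (b ≫ y) := by
  obtain ⟨l, h1, h2⟩ := h
  exact ⟨b ≫ l, by rw [Category.assoc, h1], by rw [Category.assoc, h2]⟩

lemma Mem.w {a : T' ⟶ T} {y : T' ⟶ X} (h : F.Mem a y) : y ≫ f = a ≫ g := by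
  obtain ⟨l, h1, h2⟩ := h
  rw [← h1, ← h2, Category.assoc, Category.assoc, F.w]

/-- Base change of a family. -/
noncomputable def pull (a : T' ⟶ T) : Fam f d (a ≫ g) where
  C := pullback F.p a
  x := pullback.fst F.p a ≫ F.x
  p := pullback.snd F.p a
  w := by rw [Category.assoc, F.w, pullback.condition_assoc]
  mono b c h1 h2 := by
    apply pullback.hom_ext
    · refine F.mono _ _ (by simpa using h1) ?_
      rw [Category.assoc, Category.assoc, pullback.condition, ← Category.assoc, h2, Category.assoc]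
    · exact h2
  deg := isFinLocFreeOfDeg_of_isPullback (IsPullback.of_hasPullback _ _) F.deg

lemma mem_pull_iff (a : T' ⟶ T) (b : T'' ⟶ T') (y : T'' ⟶ X) :
    (F.pull a).Mem b y ↔ F.Mem (b ≫ a) y := by
  constructor
  · rintro ⟨l, h1, h2⟩
    refine ⟨l ≫ pullback.fst F.p a, by rw [Category.assoc]; exact h1, ?_⟩
    have h3 : l ≫ pullback.snd F.p a = b := h2
    rw [Category.assoc, pullback.condition, ← Category.assoc, h3]
  · rintro ⟨l, h1, h2⟩
    exact ⟨pullback.lift l b h2, by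
      show _ ≫ pullback.fst _ _ ≫ F.x = y
      rw [pullback.lift_fst_assoc, h1], pullback.lift_snd _ _ _⟩

/-- Change of the structure map by an equality. -/
def cast {g' : T ⟶ S} (h : g = g') : Fam f d g' where
  C := F.C
  x := F.x
  p := F.p
  w := h ▸ F.w
  mono := F.mono
  deg := F.deg

@[simp] lemma mem_cast_iff {g' : T ⟶ S} (h : g = g') (a : T' ⟶ T) (y : T' ⟶ X) :
    (F.cast h).Mem a y ↔ F.Mem a y := Iff.rfl

lemma isClosedImmersion_lift [IsSeparated f] :
    IsClosedImmersion (pullback.lift F.x F.p F.w : F.C ⟶ pullback f g) := by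
  rw [IsClosedImmersion.iff_isFinite_and_mono]
  constructor
  · have h1 : IsFinite (pullback.lift F.x F.p F.w ≫ pullback.snd f g) := by
      rw [pullback.lift_snd]; exact F.deg.1.1
    exact MorphismProperty.of_postcomp (W := @IsFinite) (W' := @IsSeparated) _ (pullback.snd f g)
      inferInstance h1
  · constructor
    intro T' a b h
    refine F.mono a b ?_ ?_
    · have h1 := congrArg (· ≫ pullback.fst f g) h
      simp only [Category.assoc] at h1
      erw [pullback.lift_fst] at h1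
      exact h1
    · have h1 := congrArg (· ≫ pullback.snd f g) h
      simp only [Category.assoc] at h1
      erw [pullback.lift_snd] at h1
      exact h1

/-- Two families over the same base with the same members are isomorphic. -/
lemma exists_iso_of_mem_iff (F' : Fam f d g)
    (h : ∀ {T' : Scheme.{u}} (a : T' ⟶ T) (y : T' ⟶ X), F.Mem a y ↔ F'.Mem a y) :
    ∃ e : F.C ≅ F'.C, e.hom ≫ F'.x = F.x ∧ e.hom ≫ F'.p = F.p := by
  obtain ⟨a, ha1, ha2⟩ := (h F.p F.x).1 ⟨𝟙 _, Category.id_comp _, Category.id_comp _⟩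
  obtain ⟨b, hb1, hb2⟩ := (h F'.p F'.x).2 ⟨𝟙 _, Category.id_comp _, Category.id_comp _⟩
  refine ⟨⟨a, b, ?_, ?_⟩, ha1, ha2⟩
  · apply F.mono
    · rw [Category.assoc, hb1, ha1, Category.id_comp]
    · rw [Category.assoc, hb2, ha2, Category.id_comp]
  · apply F'.mono
    · rw [Category.assoc, ha1, hb1, Category.id_comp]
    · rw [Category.assoc, ha2, hb2, Category.id_comp]

end Fam

/-- A scheme representing families of degree `d` contained in an open `Q`. -/
structure Rep (Q : X.Opens) where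
  /-- the Hilbert scheme -/
  H : Scheme.{u}
  π : H ⟶ S
  Z : Fam f d π
  hZ : ∀ c, Z.x c ∈ Q
  ext : ∀ {T : Scheme.{u}} (v v' : T ⟶ H), v ≫ π = v' ≫ π →
    (∀ {T' : Scheme.{u}} (b : T' ⟶ T) (y : T' ⟶ X), Z.Mem (b ≫ v) y ↔ Z.Mem (b ≫ v') y) → v = v'
  exists_map : ∀ {T : Scheme.{u}} (g : T ⟶ S) (F : Fam f d g), (∀ c, F.x c ∈ Q) →
    ∃ v : T ⟶ H, v ≫ π = g ∧ ∀ {T' : Scheme.{u}} (b : T' ⟶ T) (y : T' ⟶ X),
      Z.Mem (b ≫ v) y ↔ F.Mem b y

namespace Rep

variable {f d}

section construct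

variable (Q : X.Opens)

/-- A family contained in an open subscheme. -/
noncomputable def toOpen {T : Scheme.{u}} {g : T ⟶ S} (F : Fam f d g) (hF : ∀ c, F.x c ∈ Q) :
    Fam (Q.ι ≫ f) d g where
  C := F.C
  x := IsOpenImmersion.lift Q.ι F.x (by
    rintro _ ⟨c, rfl⟩
    rw [Scheme.Opens.range_ι]
    exact hF c)
  p := F.p
  w := by rw [IsOpenImmersion.lift_fac_assoc, F.w]
  mono a b h1 h2 := F.mono a b (by
    have := congrArg (· ≫ Q.ι) h1
    simpa using this) h2
  deg := F.deg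

@[reassoc (attr := simp)]
lemma toOpen_x {T : Scheme.{u}} {g : T ⟶ S} (F : Fam f d g) (hF : ∀ c, F.x c ∈ Q) :
    (toOpen Q F hF).x ≫ Q.ι = F.x := IsOpenImmersion.lift_fac _ _ _

end construct

end Rep

section

variable {f d}

/-- The family attached to a closed subscheme. -/
noncomputable def ofObj {T : Over S} (I : HilbD.Obj f d T) : Fam f d T.hom where
  C := I.1.subscheme
  x := qq f I.1
  p := pi f I.1
  w := qq_comp f I.1
  mono a b h1 h2 := by
    rw [← cancel_mono I.1.subschemeι]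
    apply pullback.hom_ext
    · simpa using h1
    · simpa using h2
  deg := I.2

/-- The closed subscheme attached to a family. -/
noncomputable def toObj [IsSeparated f] {T : Scheme.{u}} {g : T ⟶ S} (F : Fam f d g) :
    HilbD.Obj f d (Over.mk g) :=
  have : IsClosedImmersion (toXT f (T := Over.mk g) F.p F.x F.w) := F.isClosedImmersion_lift
  ofTriple f (T := Over.mk g) F.p F.x F.w F.deg

lemma mem_ofObj_toObj_iff [IsSeparated f] {T T' : Scheme.{u}} {g : T ⟶ S} (F : Fam f d g)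
    (a : T' ⟶ T) (y : T' ⟶ X) : (ofObj (toObj F)).Mem a y ↔ F.Mem a y := by
  have : IsClosedImmersion (toXT f (T := Over.mk g) F.p F.x F.w) := F.isClosedImmersion_lift
  obtain ⟨e, he1, he2⟩ := exists_iso_ker f (T := Over.mk g) F.p F.x F.w
  constructor
  · rintro ⟨l, h1, h2⟩
    refine ⟨l ≫ e.inv, ?_, ?_⟩
    · rw [Category.assoc, ← h1]
      congr 1
      rw [Iso.inv_comp_eq]
      exact he2.symm
    · rw [Category.assoc, ← h2]
      congr 1
      rw [Iso.inv_comp_eq]
      exact he1.symm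
  · rintro ⟨l, h1, h2⟩
    refine ⟨l ≫ e.hom, ?_, ?_⟩
    · rw [Category.assoc, ← h1]
      congr 1
    · rw [Category.assoc, ← h2]
      congr 1

lemma mem_of_pull_eq {T T' : Over S} (v : T' ⟶ T) (I : HilbD.Obj f d T) (I' : HilbD.Obj f d T')
    (h : HilbD.pull f v I.1 = I'.1) {T'' : Scheme.{u}} (a : T'' ⟶ T'.left) (y : T'' ⟶ X) :
    (ofObj I).Mem (a ≫ v.left) y ↔ (ofObj I').Mem a y := by
  obtain ⟨m, hm, hq⟩ := exists_isPullback_of_pull_eq f v I.1 I'.1 h
  constructor
  · rintro ⟨l, h1, h2⟩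
    refine ⟨hm.lift l a h2, ?_, hm.lift_snd _ _ _⟩
    have h3 : hm.lift l a h2 ≫ m = l := hm.lift_fst _ _ _
    show hm.lift l a h2 ≫ qq f I'.1 = y
    rw [← hq, ← Category.assoc, h3]
    exact h1
  · rintro ⟨l, h1, h2⟩
    refine ⟨l ≫ m, ?_, ?_⟩
    · show (l ≫ m) ≫ qq f I.1 = y
      rw [Category.assoc, hq]; exact h1
    · show (l ≫ m) ≫ pi f I.1 = a ≫ v.left
      rw [Category.assoc, hm.w, ← Category.assoc]
      exact congrArg (· ≫ v.left) h2

/-- If two closed subschemes have the same members, they are equal. -/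
lemma eq_of_mem_iff {T : Over S} (I I' : HilbD.Obj f d T)
    (h : ∀ {T' : Scheme.{u}} (a : T' ⟶ T.left) (y : T' ⟶ X), (ofObj I).Mem a y ↔ (ofObj I').Mem a y) :
    I.1 = I'.1 := by
  obtain ⟨e, he1, he2⟩ := Fam.exists_iso_of_mem_iff (ofObj I) (ofObj I') h
  have h1 : e.hom ≫ I'.1.subschemeι = I.1.subschemeι := by
    apply pullback.hom_ext
    · exact (Category.assoc _ _ _).trans he1
    · exact (Category.assoc _ _ _).trans he2
  have h2 := congrArg Scheme.Hom.ker h1
  rw [Scheme.Hom.ker_comp_of_isIso, Scheme.IdealSheafData.ker_subschemeι,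
    Scheme.IdealSheafData.ker_subschemeι] at h2
  exact h2.symm

end

/-- Representability of the functor of families contained in an open `Q`. -/
theorem exists_rep (Q : X.Opens) [IsSeparated (Q.ι ≫ f)] (h : HilbD.Representable (Q.ι ≫ f) d) :
    Nonempty (Rep f d Q) := by
  obtain ⟨H, Z, hZ⟩ := h
  let Z' : Fam f d H.hom :=
    { C := (ofObj Z).C
      x := (ofObj Z).x ≫ Q.ι
      p := (ofObj Z).p
      w := by rw [Category.assoc]; exact (ofObj Z).w
      mono := fun a b h1 h2 => (ofObj Z).mono a b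
        ((cancel_mono Q.ι).1 (by simpa only [Category.assoc] using h1)) h2
      deg := (ofObj Z).deg }
  have key : ∀ {T : Scheme.{u}} (a : T ⟶ H.left) (y : T ⟶ X), Z'.Mem a y ↔
      ∃ y' : T ⟶ Q.toScheme, y' ≫ Q.ι = y ∧ (ofObj Z).Mem a y' := by
    intro T a y
    constructor
    · rintro ⟨l, h1, h2⟩
      exact ⟨l ≫ (ofObj Z).x, by rw [Category.assoc]; exact h1, l, rfl, h2⟩
    · rintro ⟨y', rfl, l, h1, h2⟩
      exact ⟨l, by rw [← h1]; exact (Category.assoc _ _ _).symm, h2⟩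
  have key2 : ∀ {T : Scheme.{u}} (a : T ⟶ H.left) (y' : T ⟶ Q.toScheme), Z'.Mem a (y' ≫ Q.ι) ↔
      (ofObj Z).Mem a y' := by
    intro T a y'
    rw [key]
    constructor
    · rintro ⟨y'', h1, h2⟩
      rw [cancel_mono] at h1
      exact h1 ▸ h2
    · intro h
      exact ⟨y', rfl, h⟩
  refine ⟨⟨H.left, H.hom, Z', ?_, ?_, ?_⟩⟩
  · intro c
    have h1 : Z'.x c = Q.ι ((ofObj Z).x c) := rfl
    rw [h1]
    exact ((ofObj Z).x c).2
  · intro T v v' hv hm
    let v₁ : Over.mk (v ≫ H.hom) ⟶ H := Over.homMk v rfl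
    let v₂ : Over.mk (v ≫ H.hom) ⟶ H := Over.homMk v' hv.symm
    have h1 : HilbD.pull (Q.ι ≫ f) v₁ Z.1 = HilbD.pull (Q.ι ≫ f) v₂ Z.1 := by
      refine eq_of_mem_iff (pullObj _ v₁ Z) (pullObj _ v₂ Z) fun a y => ?_
      rw [← mem_of_pull_eq v₁ Z (pullObj _ v₁ Z) rfl, ← mem_of_pull_eq v₂ Z (pullObj _ v₂ Z) rfl,
        ← key2, ← key2]
      exact hm a _
    exact congrArg CommaMorphism.left (hom_ext_of_isUniversal hZ h1)
  · intro T g F hF
    obtain ⟨v, hv, -⟩ := hZ (Over.mk g) (toObj (Rep.toOpen Q F hF))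
    refine ⟨v.left, Over.w v, fun {T'} b y => ?_⟩
    rw [key]
    constructor
    · rintro ⟨y', rfl, h⟩
      rw [mem_of_pull_eq v Z _ hv] at h
      obtain ⟨l, h1, h2⟩ := (mem_ofObj_toObj_iff (Rep.toOpen Q F hF) b y').1 h
      exact ⟨l, by rw [← h1, Category.assoc, Rep.toOpen_x], h2⟩
    · rintro ⟨l, h1, h2⟩
      refine ⟨l ≫ (Rep.toOpen Q F hF).x, by rw [Category.assoc, Rep.toOpen_x, h1], ?_⟩
      rw [mem_of_pull_eq v Z _ hv]
      exact (mem_ofObj_toObj_iff (Rep.toOpen Q F hF) b _).2 ⟨l, rfl, h2⟩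

end K394.FinFam
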