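import Groth.Agent.Grpsch.Points

/-!
# Subgroupoids given by a monomorphism into the scheme of arrows
-/

set_option autoImplicit false
universe u

open CategoryTheory CategoryTheory.Limits AlgebraicGeometry

namespace K394.SubGrpd

open Groth.Agent.Grpsch.Points

variable {S : Scheme.{u}} (G : Grpd.GroupoidScheme S) {P : Scheme.{u}} (ι : P ⟶ G.R)

/-- Closedness of `P ⟶ R` under identities, inverses and composition. -/
structure SubData where
  /-- identities -/
  e : G.U ⟶ P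
  /-- inverses -/
  i : P ⟶ P
  /-- composition -/
  c : pullback (ι ≫ G.s) (ι ≫ G.t) ⟶ P
  e_ι : e ≫ ι = G.e
  i_ι : i ≫ ι = ι ≫ G.i
  c_ι : c ≫ ι = pullback.map (ι ≫ G.s) (ι ≫ G.t) G.s G.t ι ι (𝟙 G.U) (Category.comp_id _)
    (Category.comp_id _) ≫ G.c

attribute [reassoc (attr := simp)] SubData.e_ι SubData.i_ι

variable {G ι} (D : SubData G ι)

lemma comp_cond {T : Scheme.{u}} {α β : T ⟶ P} (h : α ≫ ι ≫ G.s = β ≫ ι ≫ G.t) :
    (α ≫ ι) ≫ G.s = (β ≫ ι) ≫ G.t := by
  rw [Category.assoc, Category.assoc, h]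

lemma lift_c_ι {T : Scheme.{u}} (α β : T ⟶ P) (h : α ≫ ι ≫ G.s = β ≫ ι ≫ G.t) :
    (pullback.lift α β h ≫ D.c) ≫ ι = mul G (α ≫ ι) (β ≫ ι) (comp_cond h) := by
  rw [Category.assoc, D.c_ι, comp_c, comp_mul]
  apply mul_congr
  · exact (congrArg (fun w => pullback.lift α β h ≫ w) (pullback.lift_fst _ _ _)).trans
      (pullback.lift_fst_assoc _ _ _ _)
  · exact (congrArg (fun w => pullback.lift α β h ≫ w) (pullback.lift_snd _ _ _)).trans
      (pullback.lift_snd_assoc _ _ _ _)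

variable [Mono ι]

/-- The subgroupoid. -/
noncomputable def sub : Grpd.GroupoidScheme S where
  U := G.U
  R := P
  pU := G.pU
  pR := ι ≫ G.pR
  s := ι ≫ G.s
  t := ι ≫ G.t
  e := D.e
  i := D.i
  c := D.c
  s_over := by rw [Category.assoc, G.s_over]
  t_over := by rw [Category.assoc, G.t_over]
  comp_s α β h := by
    rw [← Category.assoc _ ι, lift_c_ι, mul_s, Category.assoc]
  comp_t α β h := by
    rw [← Category.assoc _ ι, lift_c_ι, mul_t, Category.assoc]
  assoc α β γ h₁ h₂ := by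
    rw [← cancel_mono ι]
    refine (lift_c_ι D _ _ _).trans (Eq.trans ?_ (lift_c_ι D _ _ _).symm)
    refine (mul_congr G _ (lift_c_ι D α β h₁) rfl).trans ?_
    refine Eq.trans ?_ (mul_congr G _ rfl (lift_c_ι D β γ h₂)).symm
    exact mul_assoc G (α ≫ ι) (β ≫ ι) (γ ≫ ι) (comp_cond h₁) (comp_cond h₂)
  e_s := by simp
  e_t := by simp
  comp_e α := by
    rw [← cancel_mono ι, lift_c_ι]
    refine (mul_congr G _ rfl ?_).trans (mul_e G (α ≫ ι) ((α ≫ ι) ≫ G.s) (by simp))
    simp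
  e_comp α := by
    rw [← cancel_mono ι, lift_c_ι]
    refine (mul_congr G _ ?_ rfl).trans (e_mul G (α ≫ ι) ((α ≫ ι) ≫ G.t) (by simp))
    simp
  i_s := by simp
  i_t := by simp
  comp_i α := by
    rw [← cancel_mono ι, lift_c_ι]
    refine (mul_congr G _ rfl ?_).trans ((mul_inv G (α ≫ ι) (by simp)).trans ?_)
    · simp
    · simp
  i_comp α := by
    rw [← cancel_mono ι, lift_c_ι]
    refine (mul_congr G _ ?_ rfl).trans ((inv_mul G (α ≫ ι) (by simp)).trans ?_)
    · simp
    · simp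

/-- The inclusion of the subgroupoid. -/
noncomputable def incl : Grpd.GroupoidScheme.Hom (sub D) G where
  fU := 𝟙 _
  fR := ι
  fU_over := Category.id_comp _
  comm_s := (Category.comp_id _).symm
  comm_t := (Category.comp_id _).symm
  comm_c α β h := lift_c_ι D α β h

lemma mul_ι {T : Scheme.{u}} (α β : T ⟶ P) (h : α ≫ (sub D).s = β ≫ (sub D).t) :
    mul (sub D) α β h ≫ ι = mul G (α ≫ ι) (β ≫ ι) (comp_cond h) :=
  lift_c_ι D α β h

lemma j_eq : (sub D).j = ι ≫ G.j := by
  apply pullback.hom_ext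
  · refine (j_fst (sub D)).trans ?_
    exact ((Category.assoc ι G.j (pullback.fst G.pU G.pU)).trans (by rw [j_fst]; rfl)).symm
  · refine (j_snd (sub D)).trans ?_
    exact ((Category.assoc ι G.j (pullback.snd G.pU G.pU)).trans (by rw [j_snd]; rfl)).symm

end K394.SubGrpd
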