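import Groth.Agent.Grpd.K394.FinAct
import Groth.Agent.Grpd.K394.FinEq
import Groth.Agent.Grpd.K394.SubGrpd
import Groth.Agent.Grpsch.Restrict
import Groth.Agent.Sga1.EtaleSection

/-!
# The finite groupoid on a stable open of the Hilbert scheme
-/

set_option autoImplicit false
set_option backward.isDefEq.respectTransparency false
set_option backward.isDefEq.respectTransparency.types false
universe u

open CategoryTheory CategoryTheory.Limits AlgebraicGeometry

namespace K394.FinFam

open Groth.Agent.Picfga.HilbPull Groth.Agent.Grpsch Groth.Agent.Grpsch.Points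
open Groth.Agent.Grpsch.Restrict K394.SubGrpd

section res

variable {S : Scheme.{u}} (G : Grpd.GroupoidScheme S) {U' : Scheme.{u}} (g : U' ⟶ G.U)

/-- The projection `(a, r, b) ↦ (r, b)`. -/
noncomputable def proj : arrows G g ⟶ pullback G.s g :=
  pullback.lift (toR G g) (src G g) (toR_s G g)

lemma isPullback_proj : IsPullback (tgt G g) (proj G g) g (pullback.fst G.s g ≫ G.t) := by
  refine ⟨⟨by rw [proj, pullback.lift_fst_assoc, toR_t]⟩, ⟨PullbackCone.IsLimit.mk _
    (fun r => Restrict.mk G g r.fst (r.snd ≫ pullback.fst _ _) (r.snd ≫ pullback.snd _ _)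
      (by rw [Category.assoc]; exact r.condition.symm)
      (by rw [Category.assoc, Category.assoc, pullback.condition])) ?_ ?_ ?_⟩⟩
  · intro r
    exact mk_tgt ..
  · intro r
    apply pullback.hom_ext
    · rw [Category.assoc, proj, pullback.lift_fst, mk_toR]
    · rw [Category.assoc, proj, pullback.lift_snd, mk_src]
  · intro r m h1 h2
    apply arrows_hom_ext
    · rw [mk_tgt, h1]
    · rw [mk_toR, ← h2, Category.assoc, proj, pullback.lift_fst]
    · rw [mk_src, ← h2, Category.assoc, proj, pullback.lift_snd]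

end res

namespace Rep

variable {S : Scheme.{u}} {G : Grpd.GroupoidScheme S} [LocallyOfFiniteType G.s] {d : ℕ}
  (H : Rep G.s d G.s.quasiFiniteLocus) (W : H.H.Opens)

/-- Stable opens with identities. -/
structure Good : Prop where
  stable : ∀ c, H.Z.p c ∈ W → H.act c ∈ W
  mem_e : H.Z.Mem W.ι ((W.ι ≫ H.π) ≫ G.e)

variable {H W} (hW : Good H W)

/-- The map `W ⟶ U` -/
noncomputable abbrev base (H : Rep G.s d G.s.quasiFiniteLocus) (W : H.H.Opens) :
    W.toScheme ⟶ G.U := W.ι ≫ H.π

/-- Arrows. -/
noncomputable abbrev arr (H : Rep G.s d G.s.quasiFiniteLocus) (W : H.H.Opens) : Scheme.{u} :=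
  pullback H.Z.p W.ι

variable {T : Scheme.{u}}

include hW in
lemma range_act : Set.range (pullback.fst H.Z.p W.ι ≫ H.act) ⊆ Set.range W.ι := by
  rintro _ ⟨c, rfl⟩
  rw [Scheme.Opens.range_ι, Scheme.Hom.comp_apply]
  apply hW.stable
  rw [← Scheme.Hom.comp_apply, pullback.condition, Scheme.Hom.comp_apply]
  exact (pullback.snd H.Z.p W.ι c).2

/-- Target. -/
noncomputable def arrT : arr H W ⟶ W.toScheme :=
  IsOpenImmersion.lift W.ι (pullback.fst H.Z.p W.ι ≫ H.act) (range_act hW)

@[reassoc (attr := simp)]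
lemma arrT_ι : arrT hW ≫ W.ι = pullback.fst H.Z.p W.ι ≫ H.act := IsOpenImmersion.lift_fac _ _ _

/-- The map to the restricted groupoid. -/
noncomputable def toRes : arr H W ⟶ arrows G (base H W) :=
  Restrict.mk G _ (arrT hW) (pullback.fst _ _ ≫ H.Z.x) (pullback.snd _ _)
    (by rw [arrT_ι_assoc, act_π, Category.assoc])
    (by rw [Category.assoc, H.Z.w, pullback.condition_assoc])

@[reassoc (attr := simp)]
lemma toRes_tgt : toRes hW ≫ tgt G (base H W) = arrT hW := mk_tgt ..

@[reassoc (attr := simp)]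
lemma toRes_toR : toRes hW ≫ toR G (base H W) = pullback.fst _ _ ≫ H.Z.x := mk_toR ..

@[reassoc (attr := simp)]
lemma toRes_src : toRes hW ≫ src G (base H W) = pullback.snd _ _ := mk_src ..

/-- The criterion for a `T`-point of the restricted groupoid to be an arrow. -/
lemma exists_lift (α : T ⟶ arrows G (base H W)) (l : T ⟶ H.Z.C)
    (h1 : l ≫ H.Z.x = α ≫ toR G (base H W)) (h2 : l ≫ H.Z.p = α ≫ src G (base H W) ≫ W.ι)
    (h3 : l ≫ H.act = α ≫ tgt G (base H W) ≫ W.ι) : ∃ m : T ⟶ arr H W, m ≫ toRes hW = α := by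
  refine ⟨pullback.lift l (α ≫ src G (base H W)) (by rw [Category.assoc, h2]), ?_⟩
  apply arrows_hom_ext
  · rw [Category.assoc, toRes_tgt, ← cancel_mono W.ι, Category.assoc, arrT_ι,
      pullback.lift_fst_assoc, h3, Category.assoc]
  · rw [Category.assoc, toRes_toR, pullback.lift_fst_assoc, h1]
  · rw [Category.assoc, toRes_src, pullback.lift_snd]

instance : Mono (toRes hW) := by
  constructor
  intro T a b h
  apply pullback.hom_ext
  · apply H.Z.mono
    · have := congrArg (· ≫ toR G (base H W)) h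
      simpa only [Category.assoc, toRes_toR] using this
    · have := congrArg (· ≫ src G (base H W)) h
      simp only [Category.assoc, toRes_src] at this
      rw [Category.assoc, Category.assoc, pullback.condition, reassoc_of% this]
  · have := congrArg (· ≫ src G (base H W)) h
    simpa only [Category.assoc, toRes_src] using this

/-- The map from the family to the restricted groupoid is an open immersion. -/
theorem isOpenImmersion_toRes [IsSeparated G.s] (h1 : (H.Z.pull W.ι).Open) [Etale (base H W)] :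
    IsOpenImmersion (toRes hW) := by
  have h2 : Etale (proj G (base H W)) :=
    MorphismProperty.of_isPullback (P := @Etale) (isPullback_proj G (base H W)) inferInstance
  have h3 : toRes hW ≫ proj G (base H W) = (H.Z.pull W.ι).lift := by
    apply pullback.hom_ext
    · rw [Category.assoc, proj, pullback.lift_fst, toRes_toR, pullback.lift_fst]
      rfl
    · rw [Category.assoc, proj, pullback.lift_snd, toRes_src, pullback.lift_snd]
      rfl
  have h4 : IsOpenImmersion (toRes hW ≫ proj G (base H W)) := by rw [h3]; exact h1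
  exact Groth.Agent.Sga1.EtaleSection.isOpenImmersion_of_comp _ (proj G (base H W))

lemma exists_e : ∃ m : W.toScheme ⟶ arr H W, m ≫ toRes hW = (restrict G (base H W)).e := by
  obtain ⟨l, h1, h2⟩ := hW.mem_e
  have h4 : (restrict G (base H W)).e = Restrict.mk G (base H W) (𝟙 _) (base H W ≫ G.e) (𝟙 _) (by simp)
    (by simp) := rfl
  refine exists_lift hW _ l ?_ ?_ ?_
  · rw [h4, mk_toR, h1]
  · rw [h4, mk_src_assoc, Category.id_comp, h2]
  · rw [h4, mk_tgt_assoc, Category.id_comp]
    exact act_of_e H l W.ι (by rw [h1, Category.assoc]) h2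

lemma exists_i : ∃ m : arr H W ⟶ arr H W, m ≫ toRes hW = toRes hW ≫ (restrict G (base H W)).i := by
  have h0 : H.Z.Mem (pullback.fst H.Z.p W.ι ≫ H.Z.p)
      ((pullback.fst H.Z.p W.ι ≫ H.Z.p ≫ H.π) ≫ G.e) := by
    have := hW.mem_e.comp H.Z (pullback.snd H.Z.p W.ι)
    rw [← pullback.condition] at this
    have e1 : (pullback.fst H.Z.p W.ι ≫ H.Z.p ≫ H.π) ≫ G.e =
      pullback.snd H.Z.p W.ι ≫ (W.ι ≫ H.π) ≫ G.e := by
      simp only [Category.assoc, pullback.condition_assoc]
    rw [e1]
    exact this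
  obtain ⟨l, h1, h2, h3⟩ := H.exists_inv (pullback.fst H.Z.p W.ι) h0
  have h4 : (restrict G (base H W)).i = Restrict.mk G (base H W) (src G _) (toR G _ ≫ G.i) (tgt G _) (by simp)
    (by simp) := rfl
  refine exists_lift hW _ l ?_ ?_ ?_
  · rw [h4, Category.assoc, mk_toR, toRes_toR_assoc, h1, Category.assoc]
  · rw [h4, Category.assoc, mk_src_assoc, toRes_tgt_assoc, arrT_ι, h2]
  · rw [h4, Category.assoc, mk_tgt_assoc, toRes_src_assoc, h3, pullback.condition]

lemma exists_c (a b : T ⟶ arr H W) (hab : (a ≫ toRes hW) ≫ src G _ = (b ≫ toRes hW) ≫ tgt G _) :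
    ∃ m : T ⟶ arr H W, m ≫ toRes hW = comp G (base H W) (a ≫ toRes hW) (b ≫ toRes hW) hab := by
  have h1 : (b ≫ pullback.fst H.Z.p W.ι) ≫ H.act = (a ≫ pullback.fst H.Z.p W.ι) ≫ H.Z.p := by
    simp only [Category.assoc, toRes_src, toRes_tgt] at hab
    rw [Category.assoc, Category.assoc, pullback.condition, reassoc_of% hab, arrT_ι]
  have h2 : ((a ≫ pullback.fst H.Z.p W.ι) ≫ H.Z.x) ≫ G.s =
      ((b ≫ pullback.fst H.Z.p W.ι) ≫ H.Z.x) ≫ G.t := by
    have := congrArg (· ≫ H.π) h1
    simp only [Category.assoc, act_π] at this ⊢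
    rw [this, H.Z.w]
  obtain ⟨l, hl1, hl2, hl3⟩ := H.exists_comp _ _ h1 h2
  refine exists_lift hW _ l ?_ ?_ ?_
  · rw [comp_toR, hl1]
    apply mul_congr
    · simp only [Category.assoc, toRes_toR]
    · simp only [Category.assoc, toRes_toR]
  · rw [comp_src_assoc, hl2]
    simp only [Category.assoc, toRes_src_assoc, pullback.condition]
  · rw [comp_tgt_assoc, hl3]
    simp only [Category.assoc, toRes_tgt_assoc, arrT_ι]

/-- The subgroupoid of the restriction. -/
theorem exists_subData : Nonempty (SubData (restrict G (base H W)) (toRes hW)) := by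
  obtain ⟨e, he⟩ := exists_e hW
  obtain ⟨i, hi⟩ := exists_i hW
  obtain ⟨c, hc⟩ := exists_c hW (pullback.fst (toRes hW ≫ src G _) (toRes hW ≫ tgt G _))
    (pullback.snd (toRes hW ≫ src G _) (toRes hW ≫ tgt G _))
    (by rw [Category.assoc, Category.assoc, pullback.condition])
  refine ⟨⟨e, i, c, he, hi, ?_⟩⟩
  refine hc.trans ?_
  rw [← lift_cR]
  rfl

end Rep

end K394.FinFam
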