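import Groth.Agent.Grpd.K394.FinSplit

/-!
# Étale localization of groupoid schemes: the main theorem
-/

set_option autoImplicit false
set_option backward.isDefEq.respectTransparency false
set_option backward.isDefEq.respectTransparency.types false
universe u

open CategoryTheory CategoryTheory.Limits AlgebraicGeometry IsLocalRing

namespace K394.FinFam

open Groth.Agent Groth.Agent.Picfga.HilbPull Groth.Agent.Grpsch Groth.Agent.Grpsch.Points
open Groth.Agent.Grpsch.Restrict K394.SubGrpd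

variable {S : Scheme.{u}}

/-- The groupoid on a good open. -/
noncomputable def Rep.grpd {G : Grpd.GroupoidScheme S} [LocallyOfFiniteType G.s] {d : ℕ}
    {H : Rep G.s d G.s.quasiFiniteLocus} {W : H.H.Opens} (hW : Rep.Good H W) :
    Grpd.GroupoidScheme S := sub (Rep.exists_subData hW).some

namespace Rep

variable {G : Grpd.GroupoidScheme S} [LocallyOfFiniteType G.s] {d : ℕ}
  {H : Rep G.s d G.s.quasiFiniteLocus} {W : H.H.Opens} (hW : Rep.Good H W)

lemma grpd_s : (grpd hW).s = pullback.snd H.Z.p W.ι := toRes_src hW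

lemma grpd_t : (grpd hW).t = arrT hW := toRes_tgt hW

lemma isFinite_s : IsFinite (grpd hW).s := by
  rw [grpd_s]
  have := H.Z.deg.1.1
  infer_instance

lemma flat_s : Flat (grpd hW).s := by
  rw [grpd_s]
  have := H.Z.deg.1.2.1
  infer_instance

lemma lofp_s : LocallyOfFinitePresentation (grpd hW).s := by
  rw [grpd_s]
  have := H.Z.deg.1.2.2
  infer_instance

/-- Stable affine opens around a fixed point. -/
theorem exists_affine {O : H.H.Opens} (hO : Rep.Good H O) (v : H.H) (hv : v ∈ O)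
    (horb : ∀ c, H.Z.p c = v → H.act c = v) :
    ∃ W : H.H.Opens, W ≤ O ∧ v ∈ W ∧ IsAffineOpen W ∧ ∀ c, H.Z.p c ∈ W → H.act c ∈ W := by
  have f1 := isFinite_s hO
  have f2 := flat_s hO
  have f3 := lofp_s hO
  have g1 : IsFinite (grpd hO).t := (s_iff_t (P := @IsFinite) (grpd hO)).1 f1
  have g2 : Flat (grpd hO).t := (s_iff_t (P := @Flat) (grpd hO)).1 f2
  have g3 : LocallyOfFinitePresentation (grpd hO).t :=
    (s_iff_t (P := @LocallyOfFinitePresentation) (grpd hO)).1 f3
  let v' : O.toScheme := ⟨v, hv⟩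
  obtain ⟨_, ⟨V, hV, rfl⟩, hvV, -⟩ := O.toScheme.isBasis_affineOpens.exists_subset_of_mem_open
    (Set.mem_univ v') isOpen_univ
  obtain ⟨W₁, hW₁, hvW₁, hinv⟩ := Groth.Agent.S1881.result S (grpd hO) v' V hV (by
    intro r hr
    have hr' : pullback.snd H.Z.p O.ι r = v' :=
      (congrArg (fun m : arr H O ⟶ O.toScheme => m r) (grpd_s hO)).symm.trans hr
    have h0 : arrT hO r = v' := by
      apply O.ι.isOpenEmbedding.injective
      rw [← Scheme.Hom.comp_apply, arrT_ι, Scheme.Hom.comp_apply]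
      refine horb _ ?_
      rw [← Scheme.Hom.comp_apply, pullback.condition, Scheme.Hom.comp_apply, hr']
      rfl
    have h1 : (grpd hO).t r = v' :=
      (congrArg (fun m : arr H O ⟶ O.toScheme => m r) (grpd_t hO)).trans h0
    rw [h1]
    exact hvV)
  refine ⟨O.ι ''ᵁ W₁, ?_, ⟨v', hvW₁, rfl⟩, hW₁.image_of_isOpenImmersion O.ι, ?_⟩
  · rintro _ ⟨w, -, rfl⟩
    exact w.2
  · rintro c ⟨w, hw, hwc⟩
    obtain ⟨r, hr1, hr2⟩ := Scheme.Pullback.exists_preimage_pullback (f := H.Z.p) (g := O.ι) c w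
      hwc.symm
    have hs : (grpd hO).s r = w :=
      (congrArg (fun m : arr H O ⟶ O.toScheme => m r) (grpd_s hO)).trans hr2
    have h1 : r ∈ (grpd hO).s ⁻¹ᵁ W₁ := by
      show (grpd hO).s r ∈ W₁
      rw [hs]
      exact hw
    rw [hinv] at h1
    have h3 : (grpd hO).t r = arrT hO r :=
      congrArg (fun m : arr H O ⟶ O.toScheme => m r) (grpd_t hO)
    refine ⟨(grpd hO).t r, h1, ?_⟩
    refine (congrArg O.ι h3).trans ?_
    have h2 : O.ι (arrT hO r) = (arrT hO ≫ O.ι) r := (Scheme.Hom.comp_apply _ _ _).symm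
    refine h2.trans ?_
    rw [arrT_ι, Scheme.Hom.comp_apply, hr1]

end Rep

open K394.FinFam.Rep

/-- Étale localization of groupoid schemes. -/
theorem split (G : Grpd.GroupoidScheme S) [IsAffine G.U]
    [IsSeparated G.s] [Flat G.s] [LocallyOfFinitePresentation G.s]
    (u : ↥G.U) (F : Set G.R) (hF : F.Finite) (hFs : ∀ r ∈ F, G.s r = u) (hFt : ∀ r ∈ F, G.t r = u)
    (hqf : ∀ r ∈ F, G.s.QuasiFiniteAt r) (he : G.e u ∈ F)
    (hmul : ∀ {K : Type u} [Field K] (y z : Spec (.of K) ⟶ G.R) (h : y ≫ G.s = z ≫ G.t),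
      z (closedPoint K) ∈ F → (mul G y z h (closedPoint K) ∈ F ↔ y (closedPoint K) ∈ F)) :
    ∃ (G' : Grpd.GroupoidScheme S) (φ : Grpd.GroupoidScheme.Hom G' G) (u' : ↥G'.U),
      IsAffine G'.U ∧ Etale φ.fU ∧ φ.fU u' = u ∧ IsIso (φ.fU.residueFieldMap u') ∧
      IsPullback φ.fR G'.j G.j
        (pullback.map G'.pU G'.pU G.pU G.pU φ.fU φ.fU (𝟙 S)
          ((Category.comp_id _).trans φ.fU_over.symm) ((Category.comp_id _).trans φ.fU_over.symm)) ∧
      ∃ (P : Scheme.{u}) (ιP : P ⟶ G'.R), IsOpenImmersion ιP ∧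
        (∃ eP : G'.U ⟶ P, eP ≫ ιP = G'.e) ∧ (∃ iP : P ⟶ P, iP ≫ ιP = ιP ≫ G'.i) ∧
        (∃ cP : pullback (ιP ≫ G'.s) (ιP ≫ G'.t) ⟶ P,
          cP ≫ ιP = pullback.map (ιP ≫ G'.s) (ιP ≫ G'.t) G'.s G'.t ιP ιP (𝟙 G'.U)
            (Category.comp_id _) (Category.comp_id _) ≫ G'.c) ∧
        IsFinite (ιP ≫ G'.s) ∧ IsFinite (ιP ≫ G'.t) ∧
        ∀ r' : ↥G'.R, G'.s r' = u' → G'.t r' = u' → φ.fR r' ∈ F → ∃ p : ↥P, ιP p = r' := by
  obtain ⟨U₂, g, p', hn, d, F₂, hop, hQ, heF, hfib1, hfib2⟩ :=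
    exists_chart G.s G.e G.e_s u F hF hFs hqf he
  obtain ⟨H⟩ := exists_rep_quasiFiniteLocus G.s d
  obtain ⟨h, hg, hh⟩ := H.exists_map g F₂ hQ
  have e1 : Etale g := hn.etale
  have e2 : Etale h := H.etale_chart F₂ hop hg hh
  have hopO : (H.Z.pull (img H h).ι).Open := open_img F₂ hop hg hh
  have hetO : Etale ((img H h).ι ≫ H.π) := etale_img hg
  have heh : H.Z.Mem h ((h ≫ H.π) ≫ G.e) := by
    have := (hh (𝟙 U₂) (g ≫ G.e)).2 heF
    rwa [Category.id_comp, ← hg] at this
  have heO := H.mem_e_img h hopO heh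
  -- the rational point
  obtain ⟨σ, hσ, hσp⟩ := EtLoc.exists_lift_of_isEtaleNbhd hn
  let P : Pt H u F :=
    { vb := σ ≫ h
      hvb := by rw [Category.assoc, hg, hσ]
      hmem := by
        intro T τ y hy
        rw [← Category.assoc, hh]
        have hy' : y ≫ G.s = (τ ≫ σ) ≫ g := by rw [hy, Category.assoc, hg, Category.assoc]
        have hpt : ∀ t, pullback.snd G.s g (pullback.lift y (τ ≫ σ) hy' t) = p' := by
          intro t
          rw [← Scheme.Hom.comp_apply, pullback.lift_snd, Scheme.Hom.comp_apply]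
          exact hσp _
        have hpt' : ∀ t, pullback.fst G.s g (pullback.lift y (τ ≫ σ) hy' t) = y t := by
          intro t
          rw [← Scheme.Hom.comp_apply, pullback.lift_fst]
        constructor
        · rintro ⟨l, hl1, hl2⟩ t
          rw [← hl1, Scheme.Hom.comp_apply]
          refine hfib1 _ ?_
          rw [← Scheme.Hom.comp_apply, hl2, Scheme.Hom.comp_apply]
          exact hσp _
        · intro hy2
          have h1 : IsOpenImmersion F₂.lift := hop
          have h3 : Set.range (pullback.lift y (τ ≫ σ) hy') ⊆ Set.range F₂.lift := by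
            rintro _ ⟨t, rfl⟩
            exact hfib2 _ (hpt t) (by rw [hpt' t]; exact hy2 t)
          let m := IsOpenImmersion.lift F₂.lift (pullback.lift y (τ ≫ σ) hy') h3
          have hm : m ≫ F₂.lift = _ := IsOpenImmersion.lift_fac _ _ _
          refine ⟨m, ?_, ?_⟩
          · have := congrArg (· ≫ pullback.fst _ _) hm
            simp only [Category.assoc] at this
            rw [pullback.lift_fst, pullback.lift_fst] at this
            exact this
          · have := congrArg (· ≫ pullback.snd _ _) hm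
            simp only [Category.assoc] at this
            rw [pullback.lift_snd, pullback.lift_snd] at this
            exact this
      hFt := hFt
      hmul := hmul }
  have hvO : P.pt ∈ img H h := ⟨σ (closedPoint (G.U.residueField u)), (Scheme.Hom.comp_apply _ _ _).symm⟩
  have hvO₁ : P.pt ∈ H.core (img H h) :=
    H.mem_core.2 ⟨hvO, fun c hc => by rw [P.act_apply c hc]; exact hvO⟩
  have hle : H.core (img H h) ≤ img H h := inf_le_left
  have hO₁ : Good H (H.core (img H h)) := H.good_of_le heO hle (H.core_stable _)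
  obtain ⟨W, hWO₁, hvW, hWa, hWst⟩ := exists_affine hO₁ P.pt hvO₁ P.act_apply
  have hWO : W ≤ img H h := hWO₁.trans hle
  have hW : Good H W := H.good_of_le heO hWO hWst
  have hopW := H.open_of_le hopO hWO
  have hetW : Etale (base H W) := by
    have : H.H.homOfLE hWO ≫ (img H h).ι ≫ H.π = W.ι ≫ H.π := by
      rw [← Category.assoc, Scheme.homOfLE_ι]
    show Etale (W.ι ≫ H.π)
    rw [← this]
    infer_instance
  obtain ⟨D⟩ := exists_subData hW
  -- the point of `W`
  let σW : Spec (G.U.residueField u) ⟶ W.toScheme := IsOpenImmersion.lift W.ι P.vb (by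
    rintro _ ⟨x, rfl⟩
    rw [Scheme.Opens.range_ι, P.vb_apply]
    exact hvW)
  have hσW : σW ≫ W.ι = P.vb := IsOpenImmersion.lift_fac _ _ _
  have hnW := EtLoc.isEtaleNbhd_of_lift (base H W) u σW (by
    show σW ≫ W.ι ≫ H.π = _
    rw [← Category.assoc, hσW, P.hvb]) (closedPoint (G.U.residueField u))
  let u' : W.toScheme := σW (closedPoint (G.U.residueField u))
  have hu' : W.ι u' = P.pt := by
    show W.ι (σW _) = _
    rw [← Scheme.Hom.comp_apply, hσW]
    exact P.vb_apply _
  have hoi : IsOpenImmersion (toRes hW) := isOpenImmersion_toRes hW hopW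
  refine ⟨restrict G (base H W), hom G (base H W), u', hWa, hetW, hnW.base_eq, ?_,
    isPullback_restrict_j G (base H W), arr H W, toRes hW, hoi, ⟨D.e, D.e_ι⟩, ⟨D.i, D.i_ι⟩,
    ⟨D.c, D.c_ι⟩, ?_, ?_, ?_⟩
  · exact (EtLoc.isIso_iff_bijective _).2 hnW.residue_bijective
  · exact isFinite_s hW
  · exact (s_iff_t (P := @IsFinite) (grpd hW)).1 (isFinite_s hW)
  · intro r' hs ht hrF
    let K := (restrict G (base H W)).R.residueField r'
    let α : Spec (.of K) ⟶ arrows G (base H W) :=
      (restrict G (base H W)).R.fromSpecResidueField r'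
    have hα : α (closedPoint K) = r' := Scheme.fromSpecResidueField_apply _ _
    have hαs : (α ≫ src G _ ≫ W.ι) (closedPoint K) = P.pt := by
      rw [Scheme.Hom.comp_apply, Scheme.Hom.comp_apply, hα, ← hu']
      exact congrArg W.ι hs
    have hαt : (α ≫ tgt G _ ≫ W.ι) (closedPoint K) = P.pt := by
      rw [Scheme.Hom.comp_apply, Scheme.Hom.comp_apply, hα, ← hu']
      exact congrArg W.ι ht
    obtain ⟨τ, hτ⟩ := P.exists_τ _ hαs
    obtain ⟨τ₂, hτ₂⟩ := P.exists_τ _ hαt
    have hmem : H.Z.Mem (τ ≫ P.vb) (α ≫ toR G _) := by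
      refine (P.hmem τ _ ?_).2 ?_
      · rw [Category.assoc, toR_s, ← Category.assoc τ, hτ]
        simp only [Category.assoc]
      · intro t
        have ht0 : t = closedPoint K := Subsingleton.elim _ _
        rw [ht0, Scheme.Hom.comp_apply, hα]
        exact hrF
    obtain ⟨l, hl1, hl2⟩ := hmem
    have hl3 : l ≫ H.act = τ₂ ≫ P.vb := by
      refine P.act_eq l τ τ₂ hl2 ?_
      rw [← Category.assoc, hτ₂, ← Category.assoc l, hl1]
      simp only [Category.assoc, toR_t]
    obtain ⟨m, hm⟩ := exists_lift hW α l hl1 (by rw [hl2, hτ]) (by rw [hl3, hτ₂])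
    refine ⟨m (closedPoint K), ?_⟩
    have h5 : (m ≫ toRes hW) (closedPoint K) = r' :=
      (congrArg (fun m : Spec (.of K) ⟶ arrows G (base H W) => m (closedPoint K)) hm).trans hα
    exact h5

end K394.FinFam
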