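import Groth.Agent.Grpd.K394.FinAct

/-!
# The orbit of a rational point of the Hilbert scheme given by a subgroup of the stabilizer
-/

set_option autoImplicit false
set_option backward.isDefEq.respectTransparency false
set_option backward.isDefEq.respectTransparency.types false
universe u

open CategoryTheory CategoryTheory.Limits AlgebraicGeometry IsLocalRing

namespace K394.FinFam

open Groth.Agent.Grpsch.Points

/-- A field valued point through the image of a section of the residue field factors. -/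
lemma exists_factor {H U : Scheme.{u}} (π : H ⟶ U) (u : U) (vb : Spec (U.residueField u) ⟶ H)
    (hv : vb ≫ π = U.fromSpecResidueField u) {K : Type u} [Field K] (v : Spec (.of K) ⟶ H)
    (h : v (closedPoint K) = vb (closedPoint (U.residueField u))) :
    ∃ τ : Spec (.of K) ⟶ Spec (U.residueField u), τ ≫ vb = v := by
  obtain ⟨φ, h1⟩ : ∃ φ : H.residueField (vb (closedPoint (U.residueField u))) ⟶ U.residueField u,
      Spec.map φ ≫ H.fromSpecResidueField _ = vb :=
    ⟨_, Scheme.descResidueField_stalkClosedPointTo_fromSpecResidueField (U.residueField u) H vb⟩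
  obtain ⟨ν₀, h2⟩ : ∃ ν : H.residueField (v (closedPoint K)) ⟶ .of K,
      Spec.map ν ≫ H.fromSpecResidueField _ = v :=
    ⟨_, Scheme.descResidueField_stalkClosedPointTo_fromSpecResidueField K H v⟩
  have h3 : π (vb (closedPoint (U.residueField u))) = u := by
    rw [← Scheme.Hom.comp_apply, hv]
    exact Scheme.fromSpecResidueField_apply _ _
  have hs : Function.Surjective φ := by
    have h4 : Spec.map φ ≫ Spec.map (π.residueFieldMap _) ≫ U.fromSpecResidueField _ =
        U.fromSpecResidueField u := by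
      rw [Scheme.Hom.SpecMap_residueFieldMap_fromSpecResidueField, ← Category.assoc, h1, hv]
    have key : ∀ (x : U) (hx : x = u) (ρ : U.residueField x ⟶ U.residueField u)
        (_ : Spec.map ρ ≫ U.fromSpecResidueField x = U.fromSpecResidueField u),
        Function.Surjective ρ := by
      intro x hx ρ h5
      subst hx
      have h6 : Spec.map ρ = 𝟙 _ := by
        rw [← cancel_mono (U.fromSpecResidueField x), h5, Category.id_comp]
      rw [← Spec.map_id, Spec.map_inj] at h6
      rw [h6]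
      exact fun y => ⟨y, rfl⟩
    rw [← Category.assoc, ← Spec.map_comp] at h4
    have h5 := key _ h3 _ h4
    intro y
    obtain ⟨z, hz⟩ := h5 y
    exact ⟨π.residueFieldMap _ z, hz⟩
  have hiso : IsIso φ := by
    have : Function.Bijective φ := ⟨φ.hom.injective, hs⟩
    exact (ConcreteCategory.isIso_iff_bijective φ).2 this
  have key2 : ∀ (x : H) (hx : x = vb (closedPoint (U.residueField u)))
      (ν : H.residueField x ⟶ .of K) (_ : Spec.map ν ≫ H.fromSpecResidueField x = v),
      ∃ τ : Spec (.of K) ⟶ Spec (U.residueField u), τ ≫ vb = v := by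
    intro x hx ν hν
    subst hx
    refine ⟨Spec.map (inv φ ≫ ν), ?_⟩
    refine (congrArg (fun m => Spec.map (inv φ ≫ ν) ≫ m) h1.symm).trans ?_
    rw [← Category.assoc, ← Spec.map_comp, ← Category.assoc, IsIso.hom_inv_id, Category.id_comp, hν]
  exact key2 _ h _ h2

variable {S : Scheme.{u}} {G : Grpd.GroupoidScheme S} [LocallyOfFiniteType G.s] {d : ℕ}
  (H : Rep G.s d G.s.quasiFiniteLocus)

/-- A rational point of the Hilbert scheme given by a set of arrows closed under multiplication. -/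
structure Pt (u : G.U) (F : Set G.R) where
  /-- the point -/
  vb : Spec (G.U.residueField u) ⟶ H.H
  hvb : vb ≫ H.π = G.U.fromSpecResidueField u
  hmem : ∀ {T : Scheme.{u}} (τ : T ⟶ Spec (G.U.residueField u)) (y : T ⟶ G.R),
    y ≫ G.s = τ ≫ vb ≫ H.π → (H.Z.Mem (τ ≫ vb) y ↔ ∀ t, y t ∈ F)
  hFt : ∀ r ∈ F, G.t r = u
  hmul : ∀ {K : Type u} [Field K] (y z : Spec (.of K) ⟶ G.R) (h : y ≫ G.s = z ≫ G.t),
    z (closedPoint K) ∈ F → (mul G y z h (closedPoint K) ∈ F ↔ y (closedPoint K) ∈ F)

namespace Pt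

variable {H} {u : G.U} {F : Set G.R} (P : Pt H u F)

include P in
lemma hmul' {T : Scheme.{u}} (y z : T ⟶ G.R) (h : y ≫ G.s = z ≫ G.t) (t : T) (hz : z t ∈ F) :
    mul G y z h t ∈ F ↔ y t ∈ F := by
  let i : Spec (.of (T.residueField t)) ⟶ T := T.fromSpecResidueField t
  have hi : i (closedPoint (T.residueField t)) = t := Scheme.fromSpecResidueField_apply _ _
  have h1 := P.hmul (i ≫ y) (i ≫ z) (by rw [Category.assoc, Category.assoc, h])
    (by rw [Scheme.Hom.comp_apply, hi]; exact hz)
  rw [← comp_mul, Scheme.Hom.comp_apply, Scheme.Hom.comp_apply, hi] at h1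
  exact h1

/-- The underlying point. -/
noncomputable def pt : H.H := P.vb (closedPoint (G.U.residueField u))

lemma vb_apply (x : Spec (G.U.residueField u)) : P.vb x = P.pt := by
  have : x = closedPoint (G.U.residueField u) := Subsingleton.elim _ _
  rw [this]
  rfl

lemma act_eq {T : Scheme.{u}} (γ : T ⟶ H.Z.C) (τ τ' : T ⟶ Spec (G.U.residueField u))
    (hγ : γ ≫ H.Z.p = τ ≫ P.vb) (hτ' : τ' ≫ P.vb ≫ H.π = γ ≫ H.Z.x ≫ G.t) :
    γ ≫ H.act = τ' ≫ P.vb := by
  have hF : ∀ t, (γ ≫ H.Z.x) t ∈ F := by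
    refine (P.hmem τ (γ ≫ H.Z.x) ?_).1 ?_
    · rw [Category.assoc, H.Z.w, ← Category.assoc, hγ, Category.assoc]
    · rw [← hγ]
      exact ⟨γ, rfl, rfl⟩
  apply H.ext
  · rw [Category.assoc, H.act_π, Category.assoc, hτ']
  · intro T' b y
    have key : ∀ hy : y ≫ G.s = ((b ≫ γ) ≫ H.Z.x) ≫ G.t,
        (H.Z.Mem (b ≫ γ ≫ H.act) y ↔ H.Z.Mem (b ≫ τ' ≫ P.vb) y) := by
      intro hy
      rw [← Category.assoc, H.mem_act_iff _ y hy, Category.assoc, hγ, ← Category.assoc b,
        ← Category.assoc b]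
      rw [P.hmem, P.hmem]
      · refine forall_congr' fun t => P.hmul' _ _ _ _ ?_
        rw [Category.assoc, Scheme.Hom.comp_apply]
        exact hF _
      · rw [Category.assoc, hτ', hy]
        simp only [Category.assoc]
      · rw [mul_s]
        simp only [Category.assoc]
        rw [H.Z.w, ← Category.assoc γ, hγ, Category.assoc]
    constructor
    · intro hm
      refine (key ?_).1 hm
      rw [hm.w]
      simp only [Category.assoc, Rep.act_π]
    · intro hm
      refine (key ?_).2 hm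
      rw [hm.w]
      simp only [Category.assoc]
      rw [hτ']

/-- Field valued points above `pt`. -/
lemma exists_τ {K : Type u} [Field K] (v : Spec (.of K) ⟶ H.H) (h : v (closedPoint K) = P.pt) :
    ∃ τ : Spec (.of K) ⟶ Spec (G.U.residueField u), τ ≫ P.vb = v :=
  exists_factor H.π u P.vb P.hvb v h

omit [LocallyOfFiniteType G.s] in
/-- Field valued points above `u`. -/
lemma exists_τ' {K : Type u} [Field K] (v : Spec (.of K) ⟶ G.U) (h : v (closedPoint K) = u) :
    ∃ τ : Spec (.of K) ⟶ Spec (G.U.residueField u), τ ≫ G.U.fromSpecResidueField u = v :=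
  exists_factor (𝟙 _) u _ (Category.comp_id _) v
    (h.trans (Scheme.fromSpecResidueField_apply _ _).symm)

/-- Arrows with source `pt`. -/
lemma act_eq_field {K : Type u} [Field K] (γ : Spec (.of K) ⟶ H.Z.C)
    (h : H.Z.p (γ (closedPoint K)) = P.pt) : ∃ τ' : Spec (.of K) ⟶ Spec (G.U.residueField u),
      τ' ≫ P.vb ≫ H.π = γ ≫ H.Z.x ≫ G.t ∧ γ ≫ H.act = τ' ≫ P.vb := by
  obtain ⟨τ, hτ⟩ := P.exists_τ (γ ≫ H.Z.p) (by rw [Scheme.Hom.comp_apply]; exact h)
  have hF : ∀ t, (γ ≫ H.Z.x) t ∈ F := by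
    refine (P.hmem τ (γ ≫ H.Z.x) ?_).1 ?_
    · rw [Category.assoc, H.Z.w, ← Category.assoc, ← hτ, Category.assoc]
    · rw [hτ]
      exact ⟨γ, rfl, rfl⟩
  obtain ⟨τ', hτ'⟩ := exists_τ' (u := u) (γ ≫ H.Z.x ≫ G.t) (by
    rw [← Category.assoc, Scheme.Hom.comp_apply]
    exact P.hFt _ (hF _))
  have h2 : τ' ≫ P.vb ≫ H.π = γ ≫ H.Z.x ≫ G.t := by rw [P.hvb]; exact hτ'
  exact ⟨τ', h2, P.act_eq γ τ τ' hτ.symm h2⟩

/-- The orbit of `pt` is a single point. -/
lemma act_apply (c : H.Z.C) (h : H.Z.p c = P.pt) : H.act c = P.pt := by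
  let γ : Spec (.of (H.Z.C.residueField c)) ⟶ H.Z.C := H.Z.C.fromSpecResidueField c
  have hγ : γ (closedPoint (H.Z.C.residueField c)) = c := Scheme.fromSpecResidueField_apply _ _
  obtain ⟨τ', -, h2⟩ := P.act_eq_field γ (by rw [hγ]; exact h)
  rw [← hγ, ← Scheme.Hom.comp_apply, h2, Scheme.Hom.comp_apply]
  exact P.vb_apply _

end Pt

end K394.FinFam
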