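import Groth.Agent.Grpd.K394.FinGrpd
import Groth.Agent.Grpd.K394.FinChart
import Groth.Agent.Grpd.K394.FinOrbit
import Groth.Agent.S1881

/-!
# Étale localization of groupoid schemes: quasi-splitting
-/

set_option autoImplicit false
set_option backward.isDefEq.respectTransparency false
set_option backward.isDefEq.respectTransparency.types false
universe u

open CategoryTheory CategoryTheory.Limits AlgebraicGeometry IsLocalRing

namespace K394.FinFam

open Groth.Agent.Picfga.HilbPull Groth.Agent.Grpsch Groth.Agent.Grpsch.Points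
open Groth.Agent.Grpsch.Restrict K394.SubGrpd

section res

variable {S : Scheme.{u}} (G : Grpd.GroupoidScheme S) {U' : Scheme.{u}} (g : U' ⟶ G.U)

/-- The restriction is the base change of `j`. -/
lemma isPullback_restrict_j : IsPullback (toR G g) (restrict G g).j G.j
    (pullback.map (restrict G g).pU (restrict G g).pU G.pU G.pU g g (𝟙 S)
      ((Category.comp_id _).trans (hom G g).fU_over.symm)
      ((Category.comp_id _).trans (hom G g).fU_over.symm)) := by
  have j1 : (restrict G g).j ≫ pullback.fst _ _ = tgt G g := j_fst (restrict G g)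
  have j2 : (restrict G g).j ≫ pullback.snd _ _ = src G g := j_snd (restrict G g)
  refine ⟨⟨?_⟩, ⟨PullbackCone.IsLimit.mk _
    (fun r => mk G g (r.snd ≫ pullback.fst _ _) r.fst (r.snd ≫ pullback.snd _ _) ?_ ?_)
    ?_ ?_ ?_⟩⟩
  · apply pullback.hom_ext
    · rw [Category.assoc, j_fst, toR_t, Category.assoc, pullback.lift_fst, ← Category.assoc, j1]
    · rw [Category.assoc, j_snd, toR_s, Category.assoc, pullback.lift_snd, ← Category.assoc, j2]
  · have h := congrArg (· ≫ pullback.fst G.pU G.pU) r.condition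
    simp only [Category.assoc, j_fst, pullback.lift_fst] at h
    rw [h, Category.assoc]
  · have h := congrArg (· ≫ pullback.snd G.pU G.pU) r.condition
    simp only [Category.assoc, j_snd, pullback.lift_snd] at h
    rw [h, Category.assoc]
  · intro r
    exact mk_toR ..
  · intro r
    apply pullback.hom_ext
    · rw [Category.assoc, j1, mk_tgt]
    · rw [Category.assoc, j2, mk_src]
  · intro r m h1 h2
    apply arrows_hom_ext
    · rw [mk_tgt, ← h2, Category.assoc, j1]
    · rw [mk_toR, h1]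
    · rw [mk_src, ← h2, Category.assoc, j2]

end res

namespace Rep

variable {S : Scheme.{u}} {G : Grpd.GroupoidScheme S} [LocallyOfFiniteType G.s] {d : ℕ}
  (H : Rep G.s d G.s.quasiFiniteLocus)

/-- The largest open whose arrows end in `O`. -/
def core (O : H.H.Opens) : H.H.Opens :=
  O ⊓ ⟨(H.Z.p '' (H.act ⁻¹' (O : Set H.H)ᶜ))ᶜ, by
    have := H.Z.deg.1.1
    exact (H.Z.p.isClosedMap _ (O.isOpen.isClosed_compl.preimage H.act.continuous)).isOpen_compl⟩

lemma mem_core {O : H.H.Opens} {v : H.H} :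
    v ∈ H.core O ↔ v ∈ O ∧ ∀ c, H.Z.p c = v → H.act c ∈ O := by
  constructor
  · rintro ⟨h1, h2⟩
    refine ⟨h1, fun c hc => ?_⟩
    by_contra hcon
    exact h2 ⟨c, hcon, hc⟩
  · rintro ⟨h1, h2⟩
    refine ⟨h1, ?_⟩
    rintro ⟨c, hc, hv⟩
    exact hc (h2 c hv)

lemma core_stable (O : H.H.Opens) (c : H.Z.C) (hc : H.Z.p c ∈ H.core O) : H.act c ∈ H.core O := by
  rw [mem_core] at hc ⊢
  refine ⟨hc.2 c rfl, fun c' hc' => ?_⟩
  obtain ⟨z, hz1, hz2⟩ := Scheme.Pullback.exists_preimage_pullback (f := H.act) (g := H.Z.p) c c'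
    hc'.symm
  have h2 : (pullback.snd H.act H.Z.p ≫ H.Z.x) ≫ G.s = (pullback.fst H.act H.Z.p ≫ H.Z.x) ≫ G.t := by
    rw [Category.assoc, H.Z.w, ← pullback.condition_assoc, Rep.act_π, Category.assoc]
  obtain ⟨l, -, hl2, hl3⟩ := H.exists_comp (pullback.snd H.act H.Z.p) (pullback.fst H.act H.Z.p)
    pullback.condition h2
  have h3 : H.act c' = H.act (l z) := by
    rw [← hz2, ← Scheme.Hom.comp_apply, ← hl3, Scheme.Hom.comp_apply]
  rw [h3]
  refine hc.2 _ ?_
  rw [← Scheme.Hom.comp_apply, hl2, Scheme.Hom.comp_apply, hz1]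

lemma good_of_le {O W : H.H.Opens} (hO : H.Z.Mem O.ι ((O.ι ≫ H.π) ≫ G.e)) (h : W ≤ O)
    (hW : ∀ c, H.Z.p c ∈ W → H.act c ∈ W) : Good H W where
  stable := hW
  mem_e := by
    have h1 := hO.comp H.Z (H.H.homOfLE h)
    rw [Scheme.homOfLE_ι, ← Category.assoc, ← Category.assoc, Scheme.homOfLE_ι] at h1
    exact h1

lemma open_of_le {O W : H.H.Opens} (hO : (H.Z.pull O.ι).Open) (h : W ≤ O) :
    (H.Z.pull W.ι).Open := by
  have h1 := hO.pull (H.H.homOfLE h)
  have e0 : H.H.homOfLE h ≫ O.ι ≫ H.π = W.ι ≫ H.π := by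
    rw [← Category.assoc, Scheme.homOfLE_ι]
  have h2 := h1.cast e0
  obtain ⟨e, he1, he2⟩ := Fam.exists_iso_of_mem_iff (H.Z.pull W.ι)
    (((H.Z.pull O.ι).pull (H.H.homOfLE h)).cast e0) (fun a y => by
      rw [Fam.mem_cast_iff, Fam.mem_pull_iff, Fam.mem_pull_iff, Fam.mem_pull_iff, Category.assoc,
        Scheme.homOfLE_ι])
  have h3 : IsOpenImmersion (((H.Z.pull O.ι).pull (H.H.homOfLE h)).cast e0).lift := h2
  have h4 : (H.Z.pull W.ι).lift = e.hom ≫ (((H.Z.pull O.ι).pull (H.H.homOfLE h)).cast e0).lift := by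
    apply pullback.hom_ext
    · rw [Category.assoc, pullback.lift_fst, pullback.lift_fst, he1]
    · rw [Category.assoc, pullback.lift_snd, pullback.lift_snd, he2]
  have h5 : IsOpenImmersion (e.hom ≫ (((H.Z.pull O.ι).pull (H.H.homOfLE h)).cast e0).lift) :=
    inferInstance
  rw [← h4] at h5
  exact h5

/-- The identity section over the image of a chart. -/
lemma mem_e_img [IsSeparated G.s] {U : Scheme.{u}} (h : U ⟶ H.H) [Etale h]
    (hop : (H.Z.pull (img H h).ι).Open) (he : H.Z.Mem h ((h ≫ H.π) ≫ G.e)) :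
    H.Z.Mem (img H h).ι (((img H h).ι ≫ H.π) ≫ G.e) := by
  obtain ⟨l, hl1, hl2⟩ := he
  have h1 : IsOpenImmersion (H.Z.pull (img H h).ι).lift := hop
  let sec : (img H h).toScheme ⟶ pullback G.s ((img H h).ι ≫ H.π) :=
    pullback.lift (((img H h).ι ≫ H.π) ≫ G.e) (𝟙 _) (by
      rw [Category.assoc, G.e_s, Category.comp_id, Category.id_comp])
  let l' : U ⟶ (H.Z.pull (img H h).ι).C := pullback.lift l (toImg h) (by rw [hl2, toImg_ι])
  have h2 : l' ≫ (H.Z.pull (img H h).ι).lift = toImg h ≫ sec := by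
    apply pullback.hom_ext
    · rw [Category.assoc, Category.assoc, pullback.lift_fst, pullback.lift_fst]
      refine (pullback.lift_fst_assoc _ _ _ _).trans ?_
      rw [hl1]
      simp only [Category.assoc, toImg_ι_assoc]
    · rw [Category.assoc, Category.assoc, pullback.lift_snd, pullback.lift_snd, Category.comp_id]
      exact pullback.lift_snd _ _ _
  have h3 : Set.range sec ⊆ Set.range (H.Z.pull (img H h).ι).lift := by
    rintro _ ⟨o, rfl⟩
    obtain ⟨x, rfl⟩ := (inferInstance : Surjective (toImg h)).surj o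
    refine ⟨l' x, ?_⟩
    rw [← Scheme.Hom.comp_apply, h2, Scheme.Hom.comp_apply]
  let m := IsOpenImmersion.lift (H.Z.pull (img H h).ι).lift sec h3
  have hm : m ≫ (H.Z.pull (img H h).ι).lift = sec := IsOpenImmersion.lift_fac _ _ _
  have h4 : (H.Z.pull (img H h).ι).Mem (𝟙 _) (((img H h).ι ≫ H.π) ≫ G.e) := by
    refine ⟨m, ?_, ?_⟩
    · have := congrArg (· ≫ pullback.fst _ _) hm
      simp only [Category.assoc] at this
      rw [pullback.lift_fst, pullback.lift_fst] at this
      exact this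
    · have := congrArg (· ≫ pullback.snd _ _) hm
      simp only [Category.assoc] at this
      rw [pullback.lift_snd, pullback.lift_snd] at this
      exact this
  rw [Fam.mem_pull_iff, Category.id_comp] at h4
  exact h4

end Rep

end K394.FinFam
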