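import Groth.Agent.Grpd.K394.SubGrpd
import Groth.Agent.Grpd.K394.DescGrpd
import Groth.Prelude.Def_Desc

/-!
# Dividing a groupoid scheme by a subgroupoid which is the equivalence relation of a covering

`hpb : IsPullback (ι ≫ G.t) (ι ≫ G.s) π π` for a subgroupoid `ι : P ⟶ R` and a covering `π : U ⟶ M`.
The scheme of arrows `R` carries a descent datum relative to `U ×_S U ⟶ M ×_S M`; if it is effective
then `R` is the restriction of a groupoid scheme on `M`.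
-/

set_option autoImplicit false
universe u

open CategoryTheory CategoryTheory.Limits AlgebraicGeometry

namespace K394.QuotSub

open Groth.Agent.Grpsch.Points K394.SubGrpd K394.DescGrpd

variable {S : Scheme.{u}} {G : Grpd.GroupoidScheme S} {P : Scheme.{u}} {ι : P ⟶ G.R}
  (D : SubData G ι) {M : Scheme.{u}} {π : G.U ⟶ M}
  (hpb : IsPullback (ι ≫ G.t) (ι ≫ G.s) π π)

section arr

variable {T T' : Scheme.{u}}

/-- the arrow of `P` from `x'` to `x`. -/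
noncomputable def arr (x x' : T ⟶ G.U) (h : x ≫ π = x' ≫ π) : T ⟶ G.R := hpb.lift x x' h ≫ ι

@[simp]
lemma arr_t (x x' : T ⟶ G.U) (h : x ≫ π = x' ≫ π) : arr hpb x x' h ≫ G.t = x := by
  rw [arr, Category.assoc, hpb.lift_fst]

@[simp]
lemma arr_s (x x' : T ⟶ G.U) (h : x ≫ π = x' ≫ π) : arr hpb x x' h ≫ G.s = x' := by
  rw [arr, Category.assoc, hpb.lift_snd]

lemma arr_congr {x x' y y' : T ⟶ G.U} (h : x ≫ π = x' ≫ π) (e1 : x = y) (e2 : x' = y') :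
    arr hpb x x' h = arr hpb y y' (by rw [← e1, ← e2, h]) := by
  subst e1 e2; rfl

lemma comp_arr (f : T' ⟶ T) (x x' : T ⟶ G.U) (h : x ≫ π = x' ≫ π) :
    f ≫ arr hpb x x' h = arr hpb (f ≫ x) (f ≫ x') (by rw [Category.assoc, h, Category.assoc]) := by
  rw [arr, arr, ← Category.assoc]
  congr 1
  apply hpb.hom_ext
  · rw [Category.assoc, hpb.lift_fst, hpb.lift_fst]
  · rw [Category.assoc, hpb.lift_snd, hpb.lift_snd]

/-- uniqueness of arrows in `P` -/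
lemma eq_arr (p : T ⟶ P) (x x' : T ⟶ G.U) (h : x ≫ π = x' ≫ π) (ht : (p ≫ ι) ≫ G.t = x)
    (hs : (p ≫ ι) ≫ G.s = x') : p ≫ ι = arr hpb x x' h := by
  rw [arr]
  congr 1
  apply hpb.hom_ext
  · rw [hpb.lift_fst, ← Category.assoc, ht]
  · rw [hpb.lift_snd, ← Category.assoc, hs]

include D

lemma arr_self (x : T ⟶ G.U) : arr hpb x x rfl = x ≫ G.e := by
  rw [← D.e_ι, ← Category.assoc]
  refine (eq_arr hpb (x ≫ D.e) x x rfl ?_ ?_).symm
  · simp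
  · simp

lemma arr_mul (x x' x'' : T ⟶ G.U) (h : x ≫ π = x' ≫ π) (h' : x' ≫ π = x'' ≫ π)
    (hc : arr hpb x x' h ≫ G.s = arr hpb x' x'' h' ≫ G.t) :
    mul G (arr hpb x x' h) (arr hpb x' x'' h') hc = arr hpb x x'' (h.trans h') := by
  have hc' : hpb.lift x x' h ≫ ι ≫ G.s = hpb.lift x' x'' h' ≫ ι ≫ G.t := by
    simpa only [arr, Category.assoc] using hc
  have e1 := lift_c_ι D (hpb.lift x x' h) (hpb.lift x' x'' h') hc'
  have e2 := eq_arr hpb (pullback.lift (hpb.lift x x' h) (hpb.lift x' x'' h') hc' ≫ D.c) x x''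
    (h.trans h') (by
      rw [e1, mul_t]; exact arr_t hpb x x' h) (by
      rw [e1, mul_s]; exact arr_s hpb x' x'' h')
  rw [← e2, e1]
  rfl

lemma arr_i (x x' : T ⟶ G.U) (h : x ≫ π = x' ≫ π) :
    arr hpb x x' h ≫ G.i = arr hpb x' x h.symm := by
  symm
  apply eq_inv_of_mul_eq_e G (arr hpb x x' h) (arr hpb x' x h.symm) x (by simp)
  rw [arr_mul D hpb, arr_self D hpb]

end arr

section act

variable {T T' : Scheme.{u}}

/-- `r ↦ a r b` with `a, b` in `P`, of target `x₁` and source `y₁`. -/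
noncomputable def tr (r : T ⟶ G.R) (x₁ y₁ : T ⟶ G.U) (hx : r ≫ G.t ≫ π = x₁ ≫ π)
    (hy : r ≫ G.s ≫ π = y₁ ≫ π) : T ⟶ G.R :=
  mul G (mul G (arr hpb x₁ (r ≫ G.t) (by rw [← hx, Category.assoc])) r (by simp))
    (arr hpb (r ≫ G.s) y₁ (by rw [← hy, Category.assoc])) (by simp)

variable (r : T ⟶ G.R) (x₁ y₁ : T ⟶ G.U) (hx : r ≫ G.t ≫ π = x₁ ≫ π)
    (hy : r ≫ G.s ≫ π = y₁ ≫ π)

@[simp]
lemma tr_t : tr hpb r x₁ y₁ hx hy ≫ G.t = x₁ := by simp [tr]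

@[simp]
lemma tr_s : tr hpb r x₁ y₁ hx hy ≫ G.s = y₁ := by simp [tr]

lemma tr_congr {r r' : T ⟶ G.R} {x₁ x₁' y₁ y₁' : T ⟶ G.U} (hx : r ≫ G.t ≫ π = x₁ ≫ π)
    (hy : r ≫ G.s ≫ π = y₁ ≫ π) (e1 : r = r') (e2 : x₁ = x₁') (e3 : y₁ = y₁') :
    tr hpb r x₁ y₁ hx hy = tr hpb r' x₁' y₁' (by rw [← e1, ← e2, hx]) (by rw [← e1, ← e3, hy]) := by
  subst e1 e2 e3; rfl

lemma comp_tr (f : T' ⟶ T) : f ≫ tr hpb r x₁ y₁ hx hy = tr hpb (f ≫ r) (f ≫ x₁) (f ≫ y₁)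
    (by rw [Category.assoc, hx, Category.assoc]) (by rw [Category.assoc, hy, Category.assoc]) := by
  rw [tr, comp_mul]
  refine mul_congr G _ ?_ ?_
  · rw [comp_mul]
    refine mul_congr G _ ?_ rfl
    rw [comp_arr]
    exact arr_congr hpb _ rfl (Category.assoc _ _ _).symm
  · rw [comp_arr]
    exact arr_congr hpb _ (Category.assoc _ _ _).symm rfl

include D in
lemma tr_self (h1 : r ≫ G.t ≫ π = (r ≫ G.t) ≫ π) (h2 : r ≫ G.s ≫ π = (r ≫ G.s) ≫ π) :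
    tr hpb r (r ≫ G.t) (r ≫ G.s) h1 h2 = r := by
  rw [tr, mul_congr G _ rfl (arr_self D hpb (r ≫ G.s)), mul_e,
    mul_congr G _ (arr_self D hpb (r ≫ G.t)) rfl, e_mul]

include D in
lemma tr_tr (x₂ y₂ : T ⟶ G.U) (hx₂ : x₁ ≫ π = x₂ ≫ π) (hy₂ : y₁ ≫ π = y₂ ≫ π)
    (hx' : tr hpb r x₁ y₁ hx hy ≫ G.t ≫ π = x₂ ≫ π)
    (hy' : tr hpb r x₁ y₁ hx hy ≫ G.s ≫ π = y₂ ≫ π) :
    tr hpb (tr hpb r x₁ y₁ hx hy) x₂ y₂ hx' hy' = tr hpb r x₂ y₂ (hx.trans hx₂) (hy.trans hy₂) := by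
  have h1 : x₁ ≫ π = (r ≫ G.t) ≫ π := by rw [← hx, Category.assoc]
  have h2 : (r ≫ G.s) ≫ π = y₁ ≫ π := by rw [← hy, Category.assoc]
  -- a' * ((a * r) * b) * b'
  have e1 : tr hpb (tr hpb r x₁ y₁ hx hy) x₂ y₂ hx' hy' =
      mul G (mul G (arr hpb x₂ x₁ hx₂.symm) (mul G (mul G (arr hpb x₁ (r ≫ G.t) h1) r (by simp))
        (arr hpb (r ≫ G.s) y₁ h2) (by simp)) (by simp)) (arr hpb y₁ y₂ hy₂) (by simp) :=
    mul_congr G _ (mul_congr G _ (arr_congr hpb _ rfl (tr_t hpb r x₁ y₁ hx hy)) rfl)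
      (arr_congr hpb _ (tr_s hpb r x₁ y₁ hx hy) rfl)
  rw [e1]
  have e2 := mul_assoc G (arr hpb x₂ x₁ hx₂.symm) (mul G (arr hpb x₁ (r ≫ G.t) h1) r (by simp))
    (arr hpb (r ≫ G.s) y₁ h2) (by simp) (by simp)
  refine (mul_congr G _ e2.symm rfl).trans ?_
  refine (mul_assoc G _ (arr hpb (r ≫ G.s) y₁ h2) (arr hpb y₁ y₂ hy₂) (by simp) (by simp)).trans ?_
  refine mul_congr G _ ?_ (arr_mul D hpb _ _ _ _ _ _)
  refine (mul_assoc G (arr hpb x₂ x₁ hx₂.symm) (arr hpb x₁ (r ≫ G.t) h1) r (by simp)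
    (by simp)).symm.trans ?_
  exact mul_congr G _ (arr_mul D hpb _ _ _ _ _ _) rfl

include D in
/-- translates of a product. -/
lemma tr_mul_tr (r₁ r₂ : T ⟶ G.R) (h : r₁ ≫ G.s = r₂ ≫ G.t) (x y z : T ⟶ G.U)
    (h1 : r₁ ≫ G.t ≫ π = x ≫ π) (h2 : r₁ ≫ G.s ≫ π = y ≫ π) (h3 : r₂ ≫ G.t ≫ π = y ≫ π)
    (h4 : r₂ ≫ G.s ≫ π = z ≫ π) (hc : tr hpb r₁ x y h1 h2 ≫ G.s = tr hpb r₂ y z h3 h4 ≫ G.t) :
    mul G (tr hpb r₁ x y h1 h2) (tr hpb r₂ y z h3 h4) hc =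
      tr hpb (mul G r₁ r₂ h) x z (by rw [← h1, ← Category.assoc, mul_t, Category.assoc])
        (by rw [← h4, ← Category.assoc, mul_s, Category.assoc]) := by
  have k1 : x ≫ π = (r₁ ≫ G.t) ≫ π := by rw [← h1, Category.assoc]
  have k2 : (r₁ ≫ G.s) ≫ π = y ≫ π := by rw [← h2, Category.assoc]
  have k3 : y ≫ π = (r₂ ≫ G.t) ≫ π := by rw [← h3, Category.assoc]
  have k4 : (r₂ ≫ G.s) ≫ π = z ≫ π := by rw [← h4, Category.assoc]
  -- ((a * r₁) * b) * ((c * r₂) * d)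
  let A := arr hpb x (r₁ ≫ G.t) k1
  let B := arr hpb (r₁ ≫ G.s) y k2
  let C := arr hpb y (r₂ ≫ G.t) k3
  let E := arr hpb (r₂ ≫ G.s) z k4
  have hBC : mul G B C (by simp [B, C]) = (r₁ ≫ G.s) ≫ G.e := by
    refine (arr_mul D hpb _ _ _ _ _ _).trans ?_
    rw [← arr_self D hpb]
    exact arr_congr hpb _ rfl h.symm
  have hB1 : mul G B (mul G C r₂ (by simp [C])) (by simp [B, C]) = r₂ := by
    rw [← mul_assoc G B C r₂ (by simp [B, C]) (by simp [C]), mul_congr G _ hBC rfl, e_mul]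
  change mul G (mul G (mul G A r₁ (by simp [A])) B (by simp [A, B]))
    (mul G (mul G C r₂ (by simp [C])) E (by simp [C, E])) hc = _
  rw [← mul_assoc G _ (mul G C r₂ (by simp [C])) E (by simp [A, B, C]) (by simp [C, E])]
  have e3 : tr hpb (mul G r₁ r₂ h) x z (by rw [← h1, ← Category.assoc, mul_t, Category.assoc])
      (by rw [← h4, ← Category.assoc, mul_s, Category.assoc]) =
      mul G (mul G A (mul G r₁ r₂ h) (by simp [A])) E (by simp [E]) :=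
    mul_congr G _ (mul_congr G _ (arr_congr hpb _ rfl (by simp)) rfl)
      (arr_congr hpb _ (by simp) rfl)
  rw [e3]
  refine mul_congr G _ ?_ rfl
  rw [mul_assoc G _ B _ (by simp [A, B]) (by simp [B, C]), mul_congr G _ rfl hB1,
    mul_assoc G A r₁ r₂ (by simp [A]) h]

include D in
lemma tr_inv (r : T ⟶ G.R) (x y : T ⟶ G.U) (h1 : r ≫ G.t ≫ π = x ≫ π) (h2 : r ≫ G.s ≫ π = y ≫ π) :
    tr hpb r x y h1 h2 ≫ G.i = tr hpb (r ≫ G.i) y x
      (by rw [← h2, ← Category.assoc, inv_t, Category.assoc])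
      (by rw [← h1, ← Category.assoc, inv_s, Category.assoc]) := by
  have k1 : x ≫ π = (r ≫ G.t) ≫ π := by rw [← h1, Category.assoc]
  have k2 : (r ≫ G.s) ≫ π = y ≫ π := by rw [← h2, Category.assoc]
  have e1 : tr hpb r x y h1 h2 = mul G (mul G (arr hpb x (r ≫ G.t) k1) r (by simp))
      (arr hpb (r ≫ G.s) y k2) (by simp) := rfl
  rw [e1, mul_comp_i]
  refine (mul_congr G _ rfl (mul_comp_i G _ _ _)).trans ?_
  refine (mul_congr G _ (arr_i D hpb _ _ _) (mul_congr G _ rfl (arr_i D hpb _ _ _))).trans ?_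
  refine (mul_assoc G _ (r ≫ G.i) _ (by simp) (by simp)).symm.trans ?_
  refine mul_congr G _ (mul_congr G _ (arr_congr hpb _ rfl (by simp)) rfl)
    (arr_congr hpb _ (by simp) rfl)

end act

end K394.QuotSub
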