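import Groth.Agent.Grpd.K394.QuotSub

/-!
# The descent datum on the scheme of arrows, and the quotient groupoid
-/

set_option autoImplicit false
set_option backward.isDefEq.respectTransparency false
set_option backward.isDefEq.respectTransparency.types false
universe u

open CategoryTheory CategoryTheory.Limits AlgebraicGeometry

namespace K394.QuotSub

open Groth.Agent.Grpsch.Points K394.SubGrpd K394.DescGrpd

variable {S : Scheme.{u}} {G : Grpd.GroupoidScheme S} {P : Scheme.{u}} {ι : P ⟶ G.R}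
  (D : SubData G ι) {M : Scheme.{u}} {π : G.U ⟶ M}
  (hpb : IsPullback (ι ≫ G.t) (ι ≫ G.s) π π) {pM : M ⟶ S} (hM : π ≫ pM = G.pU)

/-- `U ×_S U ⟶ M ×_S M` -/
noncomputable abbrev sq : pullback G.pU G.pU ⟶ pullback pM pM :=
  pullback.map G.pU G.pU pM pM π π (𝟙 S) ((Category.comp_id _).trans hM.symm)
    ((Category.comp_id _).trans hM.symm)

@[reassoc]
lemma sq_fst : sq hM ≫ pullback.fst pM pM = pullback.fst G.pU G.pU ≫ π := pullback.lift_fst _ _ _

@[reassoc]
lemma sq_snd : sq hM ≫ pullback.snd pM pM = pullback.snd G.pU G.pU ≫ π := pullback.lift_snd _ _ _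

lemma cov_sq (hπ : Cov π) : Cov (sq hM) := by
  obtain ⟨h1, h2, h3⟩ := hπ
  refine ⟨?_, ?_, ?_⟩
  · exact MorphismProperty.pullbackMap (P := @Flat) h1 h1 hM.symm hM.symm
  · exact MorphismProperty.pullbackMap (P := @Surjective) h2 h2 hM.symm hM.symm
  · exact MorphismProperty.pullbackMap (P := @LocallyOfFinitePresentation) h3 h3 hM.symm
      hM.symm

section pts

variable {hM} {T : Scheme.{u}} {w₀ w₁ : T ⟶ pullback G.pU G.pU} (h : w₀ ≫ sq hM = w₁ ≫ sq hM)
include h

lemma fst_eq : (w₀ ≫ pullback.fst G.pU G.pU) ≫ π = (w₁ ≫ pullback.fst G.pU G.pU) ≫ π := by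
  rw [Category.assoc, Category.assoc, ← sq_fst hM, ← Category.assoc, h, Category.assoc]

lemma snd_eq : (w₀ ≫ pullback.snd G.pU G.pU) ≫ π = (w₁ ≫ pullback.snd G.pU G.pU) ≫ π := by
  rw [Category.assoc, Category.assoc, ← sq_snd hM, ← Category.assoc, h, Category.assoc]

end pts

lemma t_of_lift {T : Scheme.{u}} {w : T ⟶ pullback G.pU G.pU} {r : T ⟶ G.R} (h : r ≫ G.j = w) :
    r ≫ G.t = w ≫ pullback.fst G.pU G.pU := by
  rw [← h, Category.assoc, j_fst]

lemma s_of_lift {T : Scheme.{u}} {w : T ⟶ pullback G.pU G.pU} {r : T ⟶ G.R} (h : r ≫ G.j = w) :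
    r ≫ G.s = w ≫ pullback.snd G.pU G.pU := by
  rw [← h, Category.assoc, j_snd]

/-- The action of the descent datum on points. -/
noncomputable def act {T : Scheme.{u}} (w₀ w₁ : T ⟶ pullback G.pU G.pU)
    (h : w₀ ≫ sq hM = w₁ ≫ sq hM) (v : Desc.Lifts (Over.mk G.j) w₀) :
    Desc.Lifts (Over.mk G.j) w₁ :=
  ⟨tr hpb v.1 (w₁ ≫ pullback.fst G.pU G.pU) (w₁ ≫ pullback.snd G.pU G.pU)
    (by rw [← Category.assoc, t_of_lift v.2, fst_eq h])
    (by rw [← Category.assoc, s_of_lift v.2, snd_eq h]), by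
    apply pullback.hom_ext
    · exact (Category.assoc _ _ _).trans ((congrArg _ (j_fst G)).trans (tr_t hpb _ _ _ _ _))
    · exact (Category.assoc _ _ _).trans ((congrArg _ (j_snd G)).trans (tr_s hpb _ _ _ _ _))⟩

include D in
lemma act_act {T : Scheme.{u}} (w₀ w₁ w₂ : T ⟶ pullback G.pU G.pU)
    (h : w₀ ≫ sq hM = w₁ ≫ sq hM) (h' : w₁ ≫ sq hM = w₂ ≫ sq hM)
    (v : Desc.Lifts (Over.mk G.j) w₀) :
    act hpb hM w₁ w₂ h' (act hpb hM w₀ w₁ h v) = act hpb hM w₀ w₂ (h.trans h') v := by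
  apply Subtype.ext
  simp only [act]
  exact tr_tr D hpb _ _ _ _ _ _ _ (fst_eq h') (snd_eq h') _ _

include D in
lemma act_self {T : Scheme.{u}} (w : T ⟶ pullback G.pU G.pU)
    (v : Desc.Lifts (Over.mk G.j) w) : act hpb hM w w rfl v = v := by
  apply Subtype.ext
  simp only [act]
  refine Eq.trans (tr_congr hpb _ _ rfl (t_of_lift v.2).symm (s_of_lift v.2).symm) ?_
  exact tr_self D hpb _ (Category.assoc _ _ _).symm (Category.assoc _ _ _).symm

/-- The descent datum on the scheme of arrows. -/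
noncomputable def dd : Desc.SchDD (sq hM) where
  obj := Over.mk G.j
  φ T w₀ w₁ h :=
    { toFun := act hpb hM w₀ w₁ h
      invFun := act hpb hM w₁ w₀ h.symm
      left_inv := fun v => (act_act D hpb hM _ _ _ h h.symm v).trans (act_self D hpb hM _ v)
      right_inv := fun v => (act_act D hpb hM _ _ _ h.symm h v).trans (act_self D hpb hM _ v) }
  φ_natural T T' g w₀ w₁ h h' v v' hv' := by
    simp only [Equiv.coe_fn_mk, act]
    rw [comp_tr]
    exact tr_congr hpb _ _ hv' (Category.assoc _ _ _) (Category.assoc _ _ _)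
  φ_self T w v := act_self D hpb hM w v
  φ_comp T w₀ w₁ w₂ h h' v := act_act D hpb hM _ _ _ h h' v

section eff

variable {D hpb hM} {W : Over (pullback pM pM)} (θ : (Desc.toDD (sq hM)).obj W ≅ dd D hpb hM)

/-- The isomorphism `(U ×_S U) ×_{M ×_S M} W ≅ R`. -/
noncomputable def θR : pullback (sq hM) W.hom ≅ G.R where
  hom := θ.hom.hom.left
  inv := θ.inv.hom.left
  hom_inv_id := by
    have := congrArg (fun f => f.hom.left) θ.hom_inv_id
    exact this
  inv_hom_id := by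
    have := congrArg (fun f => f.hom.left) θ.inv_hom_id
    exact this

@[reassoc (attr := simp)]
lemma θR_hom_j : (θR θ).hom ≫ G.j = pullback.fst (sq hM) W.hom := Over.w θ.hom.hom

@[reassoc (attr := simp)]
lemma θR_inv_fst : (θR θ).inv ≫ pullback.fst (sq hM) W.hom = G.j := Over.w θ.inv.hom

/-- The projection `R ⟶ W`. -/
noncomputable def qR : G.R ⟶ W.left := (θR θ).inv ≫ pullback.snd (sq hM) W.hom

lemma isPullback_qR : IsPullback (qR θ) G.j W.hom (sq hM) := by
  refine IsPullback.flip ?_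
  refine (IsPullback.of_hasPullback (sq hM) W.hom).of_iso (θR θ) (Iso.refl _) (Iso.refl _)
    (Iso.refl _) ?_ ?_ ?_ ?_
  · simp
  · simp [qR]
  · simp
  · simp

/-- the translates of an arrow have the same image. -/
lemma act_qR {T : Scheme.{u}} (w₀ w₁ : T ⟶ pullback G.pU G.pU)
    (h : w₀ ≫ sq hM = w₁ ≫ sq hM) (v : Desc.Lifts (Over.mk G.j) w₀) :
    (act hpb hM w₀ w₁ h v).1 ≫ qR θ = v.1 ≫ qR θ := by
  have hv : v.1 ≫ G.j = w₀ := v.2
  let v₀ : Desc.Lifts ((Desc.toDD (sq hM)).obj W).obj w₀ :=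
    ⟨v.1 ≫ (θR θ).inv, by
      change (v.1 ≫ (θR θ).inv) ≫ pullback.fst (sq hM) W.hom = w₀
      rw [Category.assoc, θR_inv_fst, hv]⟩
  have h1 := θ.inv.comm w₀ w₁ h v v₀ rfl
  have h2 : (Desc.canMap (sq hM) W w₀ w₁ h v₀).1 = (act hpb hM w₀ w₁ h v).1 ≫ (θR θ).inv := h1
  rw [qR, ← Category.assoc, ← h2, Desc.canMap_val, pullback.lift_snd]
  exact Category.assoc _ _ _

/-- the fibres of `R ⟶ W` consist of translates. -/
lemma eq_tr_of_qR {T : Scheme.{u}} (r r' : T ⟶ G.R) (h : r ≫ qR θ = r' ≫ qR θ)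
    (h1 : r ≫ G.t ≫ π = (r' ≫ G.t) ≫ π) (h2 : r ≫ G.s ≫ π = (r' ≫ G.s) ≫ π) :
    r' = tr hpb r (r' ≫ G.t) (r' ≫ G.s) h1 h2 := by
  have hw : (r ≫ G.j) ≫ sq hM = (r' ≫ G.j) ≫ sq hM := by
    rw [Category.assoc, ← (isPullback_qR θ).w, ← Category.assoc, h, Category.assoc,
      (isPullback_qR θ).w, Category.assoc]
  have h3 := act_qR θ (r ≫ G.j) (r' ≫ G.j) hw ⟨r, rfl⟩
  have h4 := (act hpb hM (r ≫ G.j) (r' ≫ G.j) hw ⟨r, rfl⟩).2
  have h5 : r' = (act hpb hM (r ≫ G.j) (r' ≫ G.j) hw ⟨r, rfl⟩).1 := by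
    apply (isPullback_qR θ).hom_ext
    · rw [h3, ← h]
    · exact h4.symm
  refine h5.trans ?_
  simp only [act]
  exact tr_congr hpb _ _ rfl (t_of_lift rfl).symm (s_of_lift rfl).symm

lemma qR_s : qR θ ≫ W.hom ≫ pullback.snd pM pM = G.s ≫ π := by
  rw [← Category.assoc, (isPullback_qR θ).w, Category.assoc, sq_snd, ← Category.assoc, j_snd]

lemma qR_t : qR θ ≫ W.hom ≫ pullback.fst pM pM = G.t ≫ π := by
  rw [← Category.assoc, (isPullback_qR θ).w, Category.assoc, sq_fst, ← Category.assoc, j_fst]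

/-- translates have the same image, in terms of `tr`. -/
lemma tr_qR {T : Scheme.{u}} (r : T ⟶ G.R) (x y : T ⟶ G.U) (h1 : r ≫ G.t ≫ π = x ≫ π)
    (h2 : r ≫ G.s ≫ π = y ≫ π) : tr hpb r x y h1 h2 ≫ qR θ = r ≫ qR θ := by
  have hxy : x ≫ G.pU = y ≫ G.pU := by
    rw [← hM, ← Category.assoc, ← Category.assoc, ← h1, ← h2, Category.assoc, Category.assoc,
      Category.assoc, Category.assoc, hM, G.t_over, G.s_over]
  have hw : (r ≫ G.j) ≫ sq hM = pullback.lift x y hxy ≫ sq hM := by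
    apply pullback.hom_ext
    · rw [Category.assoc, Category.assoc, Category.assoc, sq_fst, j_fst_assoc, h1,
        pullback.lift_fst_assoc]
    · rw [Category.assoc, Category.assoc, Category.assoc, sq_snd, j_snd_assoc, h2,
        pullback.lift_snd_assoc]
  have h3 := act_qR θ (r ≫ G.j) (pullback.lift x y hxy) hw ⟨r, rfl⟩
  rw [← h3]
  congr 1
  simp only [act]
  exact tr_congr hpb _ _ rfl (pullback.lift_fst _ _ _).symm (pullback.lift_snd _ _ _).symm

/-- equality of the images in `W`, in terms of `tr`. -/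
lemma exists_tr {T : Scheme.{u}} (r r' : T ⟶ G.R) (h : r ≫ qR θ = r' ≫ qR θ) :
    ∃ (h1 : r ≫ G.t ≫ π = (r' ≫ G.t) ≫ π) (h2 : r ≫ G.s ≫ π = (r' ≫ G.s) ≫ π),
      r' = tr hpb r (r' ≫ G.t) (r' ≫ G.s) h1 h2 := by
  have h1 : r ≫ G.t ≫ π = (r' ≫ G.t) ≫ π := by
    rw [Category.assoc, ← qR_t θ, ← Category.assoc, h, Category.assoc]
  have h2 : r ≫ G.s ≫ π = (r' ≫ G.s) ≫ π := by
    rw [Category.assoc, ← qR_s θ, ← Category.assoc, h, Category.assoc]
  exact ⟨h1, h2, eq_tr_of_qR θ r r' h h1 h2⟩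

/-- The descent data on the groupoid scheme. -/
theorem data : Data G π pM (qR θ) (W.hom ≫ pullback.snd pM pM) (W.hom ≫ pullback.fst pM pM) where
  π_over := hM
  over := by rw [Category.assoc, Category.assoc, pullback.condition]
  q_s := qR_s θ
  q_t := qR_t θ
  exists_lift ρ x y h1 h2 := by
    have hxy : x ≫ G.pU = y ≫ G.pU := by
      rw [← hM, ← Category.assoc, ← Category.assoc, ← h1, ← h2, Category.assoc, Category.assoc,
        Category.assoc, Category.assoc, pullback.condition]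
    have hw : ρ ≫ W.hom = pullback.lift x y hxy ≫ sq hM := by
      apply pullback.hom_ext
      · rw [Category.assoc, Category.assoc, h1, sq_fst, pullback.lift_fst_assoc]
      · rw [Category.assoc, Category.assoc, h2, sq_snd, pullback.lift_snd_assoc]
    refine ⟨(isPullback_qR θ).lift ρ (pullback.lift x y hxy) hw, (isPullback_qR θ).lift_fst _ _ _,
      ?_, ?_⟩
    · have := (isPullback_qR θ).lift_snd ρ (pullback.lift x y hxy) hw
      rw [← j_fst G, ← Category.assoc, this, pullback.lift_fst]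
    · have := (isPullback_qR θ).lift_snd ρ (pullback.lift x y hxy) hw
      rw [← j_snd G, ← Category.assoc, this, pullback.lift_snd]
  e_q x x' h := by
    have e1 : x' ≫ G.e = tr hpb (x ≫ G.e) x' x' (by simpa using h) (by simpa using h) := by
      have e2 : tr hpb (x ≫ G.e) x' x' (by simpa using h) (by simpa using h) =
          mul G (mul G (arr hpb x' x h.symm) (x ≫ G.e) (by simp)) (arr hpb x x' h) (by simp) :=
        mul_congr G _ (mul_congr G _ (arr_congr hpb _ rfl (by simp)) rfl)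
          (arr_congr hpb _ (by simp) rfl)
      rw [e2, mul_congr G _ (mul_e G _ _ _) rfl]
      exact ((arr_mul D hpb _ _ _ h.symm h _).trans (arr_self D hpb x')).symm
    rw [← Category.assoc, ← Category.assoc, e1, tr_qR]
  i_q r r' h := by
    obtain ⟨h1, h2, h3⟩ := exists_tr θ r r' h
    rw [← Category.assoc, ← Category.assoc, h3, tr_inv D hpb, tr_qR]
  mul_q r₁ r₂ r₁' r₂' h h' e1 e2 := by
    obtain ⟨a1, a2, a3⟩ := exists_tr θ r₁ r₁' e1
    obtain ⟨b1, b2, b3⟩ := exists_tr θ r₂ r₂' e2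
    have hb3 : r₂' = tr hpb r₂ (r₁' ≫ G.s) (r₂' ≫ G.s) (by rw [b1, h']) b2 :=
      b3.trans (tr_congr hpb _ _ rfl h'.symm rfl)
    rw [mul_congr G h' a3 hb3, tr_mul_tr D hpb r₁ r₂ h, tr_qR]

end eff

end K394.QuotSub
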