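import Groth.Agent.Grpd.K394.QuotSub2
import Groth.Agent.Desc.K388.FinLFEff
import Groth.Agent.FlatA.FinsetAffine
import Groth.Agent.AlgSp.K612.QuotLem
import Groth.Agent.Grpsch.QuotPoints
import Groth.Agent.S1877
import Mathlib.AlgebraicGeometry.Morphisms.QuasiFinite
import Mathlib.CategoryTheory.Limits.Constructions.Over.Connected

/-!
# Quotient of a groupoid scheme by a finite locally free subgroupoid with monomorphic `j`
-/

set_option autoImplicit false
universe u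

open CategoryTheory CategoryTheory.Limits AlgebraicGeometry

namespace K394.QuotSub

open Groth.Agent
open Groth.Agent.Grpsch.Points K394.SubGrpd K394.DescGrpd

/-- Effectivity of descent along finite locally free morphisms for separated locally quasi-finite
schemes. -/
theorem eff_lqf {X S : Scheme.{u}} (p : X ⟶ S) [IsFinite p] [Flat p] [Surjective p]
    [LocallyOfFinitePresentation p] (D : Desc.SchDD p) [IsSeparated D.obj.hom]
    [LocallyQuasiFinite D.obj.hom] [LocallyOfFiniteType D.obj.hom] :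
    ∃ U : Over S, Nonempty ((Desc.toDD p).obj U ≅ D) := by
  classical
  refine K388.FinLFEff.effective_of_fibres D fun y s hs => ?_
  obtain ⟨_, ⟨O, hO, rfl⟩, hy, -⟩ := S.isBasis_affineOpens.exists_subset_of_mem_open
    (Set.mem_univ y) isOpen_univ
  have hO' : IsAffineOpen (p ⁻¹ᵁ O) := hO.preimage p
  let W : X.Opens := p ⁻¹ᵁ O
  have hW : IsAffine W.toScheme := hO'
  let V : D.obj.left.Opens := D.obj.hom ⁻¹ᵁ W
  let f : V.toScheme ⟶ W.toScheme := D.obj.hom ∣_ W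
  have hsV : ∀ v ∈ s, v ∈ V := fun v hv => by
    show p (D.obj.hom v) ∈ O
    rw [hs v hv]
    exact hy
  have h1 : IsSeparated f := MorphismProperty.of_isPullback (isPullback_morphismRestrict _ _).flip ‹_›
  have h2 : LocallyQuasiFinite f :=
    MorphismProperty.of_isPullback (isPullback_morphismRestrict _ _).flip ‹_›
  have h3 : LocallyOfFiniteType f :=
    MorphismProperty.of_isPullback (isPullback_morphismRestrict _ _).flip ‹_›
  let s' : Finset V.toScheme := s.attach.image (fun v => ⟨v.1, hsV v.1 v.2⟩)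
  obtain ⟨U, hU, hUs⟩ := Groth.Agent.FlatA.FinsetAffine.exists_isAffineOpen f s'
  refine ⟨V.ι ''ᵁ U, hU.image_of_isOpenImmersion V.ι, fun v hv => ?_⟩
  exact ⟨⟨v, hsV v hv⟩, hUs _ (Finset.mem_image.2 ⟨⟨v, hv⟩, Finset.mem_attach _ _, rfl⟩), rfl⟩

variable {S : Scheme.{u}} (G : Grpd.GroupoidScheme S) [IsAffine G.U] {P : Scheme.{u}}
  {ιP : P ⟶ G.R} [Mono ιP] (D : SubData G ιP)
    [IsFinite (ιP ≫ G.s)] [Flat (ιP ≫ G.s)] [LocallyOfFinitePresentation (ιP ≫ G.s)]
    [IsFinite (ιP ≫ G.t)] [Flat (ιP ≫ G.t)] [LocallyOfFinitePresentation (ιP ≫ G.t)]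
    [Mono (ιP ≫ G.j)]

include D

/-- the affine quotient of `U` by `P` -/
theorem exists_quot : ∃ (M : Scheme.{u}) (π : G.U ⟶ M) (pM : M ⟶ S), IsAffine M ∧
    IsPullback (ιP ≫ G.t) (ιP ≫ G.s) π π ∧ IsFinite π ∧ Cov π ∧ π ≫ pM = G.pU := by
  let Q := sub D
  have i1 : IsAffine Q.U := ‹IsAffine G.U›
  have i2 : IsFinite Q.s := ‹IsFinite (ιP ≫ G.s)›
  have i3 : Flat Q.s := ‹Flat (ιP ≫ G.s)›
  have i4 : LocallyOfFinitePresentation Q.s := ‹LocallyOfFinitePresentation (ιP ≫ G.s)›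
  have i5 : IsFinite Q.t := ‹IsFinite (ιP ≫ G.t)›
  have i6 : Flat Q.t := ‹Flat (ιP ≫ G.t)›
  have i7 : LocallyOfFinitePresentation Q.t := ‹LocallyOfFinitePresentation (ιP ≫ G.t)›
  have i8 : IsAffine Q.R := isAffine_of_isAffineHom Q.s
  have i9 : Mono Q.j := by
    rw [show Q.j = ιP ≫ G.j from j_eq D]; exact ‹Mono (ιP ≫ G.j)›
  obtain ⟨⟨h1, h2, h3⟩, φ, hφ1, hφ2⟩ := Groth.Agent.S1877.result S Q
  have h4 : Function.Surjective Q.toQuot := Grpsch.AffGrpd.toQuot_surjective Q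
  have hcov : Cov Q.toQuot := ⟨h2, ⟨h4⟩, h3⟩
  have hpb : IsPullback Q.t Q.s Q.toQuot Q.toQuot :=
    IsPullback.of_iso_pullback ⟨Grpsch.AffGrpd.t_toQuot Q⟩ φ hφ1 hφ2
  obtain ⟨pM, hpM⟩ := hcov.exists_desc Q.pU (fun a b hab => by
    have e1 : hpb.lift a b hab ≫ Q.t = a := hpb.lift_fst _ _ _
    have e2 : hpb.lift a b hab ≫ Q.s = b := hpb.lift_snd _ _ _
    calc a ≫ Q.pU = (hpb.lift a b hab ≫ Q.t) ≫ Q.pU := by rw [e1]
      _ = (hpb.lift a b hab ≫ Q.s) ≫ Q.pU := by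
        rw [Category.assoc, Category.assoc, Q.t_over, Q.s_over]
      _ = b ≫ Q.pU := by rw [e2])
  exact ⟨_, Q.toQuot, pM, inferInstance, hpb, h1, hcov, hpM⟩

theorem exists_quotient [IsSeparated G.j] [LocallyQuasiFinite G.j]
    [LocallyOfFiniteType G.j] :
    ∃ (H : Grpd.GroupoidScheme S) (φ : Grpd.GroupoidScheme.Hom G H),
      IsAffine H.U ∧
      QuotSh.IsQuotient Scheme.fppfPrecoverage
        (Over.homMk (ιP ≫ G.s) ((Category.assoc _ _ _).trans (congrArg (ιP ≫ ·) G.s_over)) :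
          (Over.mk (ιP ≫ G.pR) : Over S) ⟶ Over.mk G.pU)
        (Over.homMk (ιP ≫ G.t) ((Category.assoc _ _ _).trans (congrArg (ιP ≫ ·) G.t_over)) :
          (Over.mk (ιP ≫ G.pR) : Over S) ⟶ Over.mk G.pU)
        (Over.homMk φ.fU φ.fU_over : Over.mk G.pU ⟶ Over.mk H.pU) ∧
      IsFinite φ.fU ∧ Flat φ.fU ∧ LocallyOfFinitePresentation φ.fU ∧
      IsPullback (ιP ≫ G.t) (ιP ≫ G.s) φ.fU φ.fU ∧
      IsPullback φ.fR G.j H.j
        (pullback.map G.pU G.pU H.pU H.pU φ.fU φ.fU (𝟙 S)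
          ((Category.comp_id _).trans φ.fU_over.symm) ((Category.comp_id _).trans φ.fU_over.symm)) := by
  obtain ⟨M, π, pM, hMa, hpb, hfin, hcov, hM⟩ := exists_quot G D
  obtain ⟨c1, c2, c3⟩ := cov_sq hM hcov
  have s1 : IsSeparated (dd D hpb hM).obj.hom := ‹IsSeparated G.j›
  have s2 : LocallyQuasiFinite (dd D hpb hM).obj.hom := ‹LocallyQuasiFinite G.j›
  have s3 : LocallyOfFiniteType (dd D hpb hM).obj.hom := ‹LocallyOfFiniteType G.j›
  have c4 : IsFinite (sq hM) :=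
    MorphismProperty.pullbackMap (P := @IsFinite) hfin hfin hM.symm hM.symm
  obtain ⟨W, ⟨θ⟩⟩ := eff_lqf (sq hM) (dd D hpb hM)
  have hD := data θ
  refine ⟨grpd hD hcov, proj hD hcov, hMa, ?_, hfin, hcov.flat, hcov.lfp, hpb, ?_⟩
  · have f1 : Flat (Over.homMk π hM : Over.mk G.pU ⟶ Over.mk pM).left := hcov.flat
    have f2 : Surjective (Over.homMk π hM : Over.mk G.pU ⟶ Over.mk pM).left := hcov.surj
    have f3 : LocallyOfFinitePresentation (Over.homMk π hM : Over.mk G.pU ⟶ Over.mk pM).left :=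
      hcov.lfp
    refine K612.QuotLem.isQuotient (q := (Over.homMk π hM : Over.mk G.pU ⟶ Over.mk pM)) ?_
    refine IsPullback.of_map (Over.forget S) ?_ ?_
    · apply Over.OverMorphism.ext
      exact hpb.w
    · exact hpb
  · have h1 := isPullback_qR θ
    have h2 : (grpd hD hcov).j = W.hom := by
      apply pullback.hom_ext
      · exact j_fst (grpd hD hcov)
      · exact j_snd (grpd hD hcov)
    rw [h2]
    exact h1

end K394.QuotSub
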